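import Cfsg.Agent.AutPSp.Semilinear
import Mathlib.Algebra.CharP.Lemmas
import Mathlib.GroupTheory.PGroup

/-!
Transvection groups in `PSp_{2m}(F)`.
-/

set_option autoImplicit false

open Matrix

namespace CfsgLib.AutPSp

open CfsgLib.Symp

variable {F : Type*} [Field F] {m : ℕ}

/-- `c ↦ tv v c`. -/
def tvHom (v : Fin m ⊕ Fin m → F) : Multiplicative F →* Matrix.symplecticGroup (Fin m) F where
  toFun c := tv v c.toAdd
  map_one' := tv_zero v
  map_mul' a b := (tv_add v a.toAdd b.toAdd).symm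

/-- The transvection group at `v` in `PSp`. -/
def xg (v : Fin m ⊕ Fin m → F) : Subgroup (Cfsg.PSp m F) :=
  ((QuotientGroup.mk' (Subgroup.center (Matrix.symplecticGroup (Fin m) F))).comp (tvHom v)).range

theorem mem_xg {v : Fin m ⊕ Fin m → F} {x : Cfsg.PSp m F} :
    x ∈ xg v ↔ ∃ c : F, QuotientGroup.mk (tv v c) = x :=
  ⟨fun ⟨c, hc⟩ => ⟨c.toAdd, hc⟩, fun ⟨c, hc⟩ => ⟨Multiplicative.ofAdd c, hc⟩⟩

theorem mk_tv_mem (v : Fin m ⊕ Fin m → F) (c : F) : (QuotientGroup.mk (tv v c) : Cfsg.PSp m F) ∈ xg v :=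
  mem_xg.mpr ⟨c, rfl⟩

theorem tv_pow (v : Fin m ⊕ Fin m → F) (c : F) (k : ℕ) : tv v c ^ k = tv v (k * c) := by
  induction k with
  | zero => rw [pow_zero, Nat.cast_zero, zero_mul, tv_zero]
  | succ k ih => rw [pow_succ, ih, tv_add]; congr 1; push_cast; ring

/-- The characteristic. -/
theorem exists_prime_char [Finite F] : ∃ p, p.Prime ∧ CharP F p := by
  obtain ⟨p, hp⟩ := CharP.exists F
  exact ⟨p, CharP.char_is_prime F p, hp⟩

theorem tv_pow_char {p : ℕ} [CharP F p] (v : Fin m ⊕ Fin m → F) (c : F) : tv v c ^ p = 1 := by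
  rw [tv_pow, CharP.cast_eq_zero, zero_mul, tv_zero]

theorem sq_eq_one_of_center {z : Matrix.symplecticGroup (Fin m) F}
    (hz : z ∈ Subgroup.center (Matrix.symplecticGroup (Fin m) F)) : z ^ 2 = 1 := by
  apply Subtype.ext
  rw [SubmonoidClass.coe_pow, pow_two]
  rcases mem_center_iff.mp hz with e | e <;> rw [e] <;> simp

/-- Lifting of `p`-elements is unique. -/
theorem eq_of_mk_eq {p : ℕ} (hp : p.Prime) [CharP F p] {A B : Matrix.symplecticGroup (Fin m) F} {k : ℕ}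
    (hA : A ^ p ^ k = 1) (hB : B ^ p ^ k = 1) (h : (QuotientGroup.mk A : Cfsg.PSp m F) = QuotientGroup.mk B) :
    A = B := by
  have hz : A⁻¹ * B ∈ Subgroup.center (Matrix.symplecticGroup (Fin m) F) := QuotientGroup.eq.mp h
  rcases hp.eq_two_or_odd' with rfl | hodd
  · have h1 : A⁻¹ * B = 1 := by
      apply Subtype.ext
      rcases mem_center_iff.mp hz with e | e
      · exact e
      · rw [e]; ext a b
        simp [Matrix.one_apply, CharTwo.neg_eq]
    exact (inv_mul_eq_one.mp h1)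
  · set z := A⁻¹ * B
    have hB' : B = A * z := (mul_inv_cancel_left A B).symm
    rw [hB', (show Commute A z from Subgroup.mem_center_iff.mp hz A).mul_pow, hA, one_mul] at hB
    obtain ⟨j, hj⟩ := hodd.pow (n := k)
    rw [hj, pow_succ, pow_mul, sq_eq_one_of_center hz, one_pow, one_mul] at hB
    rw [hB', hB, mul_one]

theorem eq_of_mk_tv_eq [Finite F] {A : Matrix.symplecticGroup (Fin m) F} {v : Fin m ⊕ Fin m → F} {c : F} {p : ℕ}
    (hp : p.Prime) [CharP F p] (hA : A ^ p = 1) (h : (QuotientGroup.mk A : Cfsg.PSp m F) = QuotientGroup.mk (tv v c)) :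
    A = tv v c :=
  eq_of_mk_eq hp (k := 1) (by rwa [pow_one]) (by rw [pow_one]; exact tv_pow_char v c) h

theorem tv_conj_pow {p : ℕ} [CharP F p] (g : Matrix.symplecticGroup (Fin m) F) (v : Fin m ⊕ Fin m → F) (c : F) :
    (g * tv v c * g⁻¹) ^ p = 1 := by
  rw [tv_conj, tv_pow_char]

theorem span_of_tv_eq {u v : Fin m ⊕ Fin m → F} {a b : F} (hu : u ≠ 0) (ha : a ≠ 0) (h : tv u a = tv v b) :
    ∃ c : F, u = c • v := by
  obtain ⟨x, hx⟩ := exists_form_eq_one hu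
  have h1 := congrArg (fun t : Matrix.symplecticGroup (Fin m) F => t • x) h
  simp only [tv_smul, add_right_inj] at h1
  rw [form_swap x u, hx] at h1
  refine ⟨(a * (-1))⁻¹ * (b * form x v), ?_⟩
  rw [← smul_smul, ← h1, smul_smul, inv_mul_cancel₀ (mul_ne_zero ha (neg_ne_zero.mpr one_ne_zero)), one_smul]

theorem tv_eq_one {u : Fin m ⊕ Fin m → F} {a : F} (hu : u ≠ 0) (h : tv u a = 1) : a = 0 := by
  obtain ⟨x, hx⟩ := exists_form_eq_one hu
  have h1 := congrArg (fun t : Matrix.symplecticGroup (Fin m) F => t • x) h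
  simp only [tv_smul, one_smul, add_eq_left, smul_eq_zero] at h1
  rw [form_swap x u, hx] at h1
  rcases h1 with h1 | h1
  · simpa using h1
  · exact absurd h1 hu

theorem tv_injective {u : Fin m ⊕ Fin m → F} (hu : u ≠ 0) {a b : F} (h : tv u a = tv u b) : a = b := by
  have : tv u (a - b) = 1 := by rw [sub_eq_add_neg, ← tv_add, h, tv_add, add_neg_cancel, tv_zero]
  exact sub_eq_zero.mp (tv_eq_one hu this)

variable [Finite F]

theorem mk_tv_injective {u : Fin m ⊕ Fin m → F} (hu : u ≠ 0) {a b : F}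
    (h : (QuotientGroup.mk (tv u a) : Cfsg.PSp m F) = QuotientGroup.mk (tv u b)) : a = b := by
  obtain ⟨p, hp, _⟩ := exists_prime_char (F := F)
  exact tv_injective hu (eq_of_mk_tv_eq hp (tv_pow_char u a) h)

theorem mk_tv_ne_one {u : Fin m ⊕ Fin m → F} (hu : u ≠ 0) {a : F} (ha : a ≠ 0) :
    (QuotientGroup.mk (tv u a) : Cfsg.PSp m F) ≠ 1 := fun h =>
  ha (mk_tv_injective hu (h.trans (by rw [tv_zero]; rfl)))

omit [Finite F] in
theorem xg_smul {v : Fin m ⊕ Fin m → F} {c : F} (hc : c ≠ 0) : xg (c • v) = xg v := by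
  ext x
  rw [mem_xg, mem_xg]
  constructor
  · rintro ⟨a, rfl⟩; exact ⟨c ^ 2 * a, by rw [tv_smul_vec]⟩
  · rintro ⟨a, rfl⟩; exact ⟨(c ^ 2)⁻¹ * a, by rw [tv_smul_vec, mul_inv_cancel_left₀ (pow_ne_zero 2 hc)]⟩

theorem span_of_xg_le {u v : Fin m ⊕ Fin m → F} (hu : u ≠ 0) (h : xg u ≤ xg v) :
    ∃ c : F, u = c • v := by
  obtain ⟨p, hp, _⟩ := exists_prime_char (F := F)
  obtain ⟨b, hb⟩ := mem_xg.mp (h (mk_tv_mem u 1))
  exact span_of_tv_eq hu one_ne_zero (eq_of_mk_tv_eq hp (tv_pow_char u 1) hb.symm)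

theorem span_of_xg_eq {u v : Fin m ⊕ Fin m → F} (hu : u ≠ 0) (h : xg u = xg v) :
    ∃ c : F, c ≠ 0 ∧ u = c • v := by
  obtain ⟨c, hc⟩ := span_of_xg_le hu h.le
  exact ⟨c, fun e => hu (by rw [hc, e, zero_smul]), hc⟩

omit [Finite F] in
theorem tv_smul_of_orth {u v : Fin m ⊕ Fin m → F} (a : F) (h : form v u = 0) : tv u a • v = v := by
  rw [tv_smul, h, mul_zero, zero_smul, add_zero]

/-- Two transvection groups commute exactly when the vectors are orthogonal. -/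
theorem commute_iff {u v : Fin m ⊕ Fin m → F} (hu : u ≠ 0) (hv : v ≠ 0) :
    (∀ x ∈ xg u, ∀ y ∈ xg v, x * y = y * x) ↔ form u v = 0 := by
  constructor
  · intro h
    obtain ⟨p, hp, _⟩ := exists_prime_char (F := F)
    have h1 := h _ (mk_tv_mem u 1) _ (mk_tv_mem v 1)
    have h2 : tv u 1 * tv v 1 * (tv u 1)⁻¹ = tv v 1 := by
      refine eq_of_mk_tv_eq hp (tv_conj_pow _ _ _) ?_
      rw [QuotientGroup.mk_mul, QuotientGroup.mk_mul, QuotientGroup.mk_inv, h1, mul_inv_cancel_right]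
    rw [tv_conj] at h2
    have hne : tv u (1 : F) • v ≠ 0 := fun e => hv (by
      rw [← inv_smul_smul (tv u (1 : F)) v, e]; exact smul_zero _)
    obtain ⟨c, hc⟩ := span_of_tv_eq hne one_ne_zero h2
    rw [tv_smul, one_mul] at hc
    by_contra h0
    have hvu : form v u ≠ 0 := by rw [form_swap]; exact neg_ne_zero.mpr h0
    have hu' : u = ((form v u)⁻¹ * (c - 1)) • v := by
      rw [← smul_smul, sub_smul, one_smul, ← hc, add_sub_cancel_left, smul_smul, inv_mul_cancel₀ hvu, one_smul]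
    apply h0
    rw [hu', form_smul_left, form_self, mul_zero]
  · intro h x hx y hy
    obtain ⟨a, rfl⟩ := mem_xg.mp hx
    obtain ⟨b, rfl⟩ := mem_xg.mp hy
    rw [← QuotientGroup.mk_mul, ← QuotientGroup.mk_mul]
    congr 1
    rw [← mul_inv_eq_iff_eq_mul, tv_conj, tv_smul_of_orth a (by rw [form_swap, h, neg_zero])]

omit [Finite F] in
/-- The image of a transvection under a semisimilitude. -/
theorem spFun_tv (g : ↥(Cfsg.GSp m F)) (σ : F ≃+* F) (μ : Fˣ)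
    (hμ : ∀ u v, form (((g : GL (Fin m ⊕ Fin m) F) : Matrix (Fin m ⊕ Fin m) (Fin m ⊕ Fin m) F) *ᵥ u) (((g : GL (Fin m ⊕ Fin m) F) : Matrix (Fin m ⊕ Fin m) (Fin m ⊕ Fin m) F) *ᵥ v) =
      (μ : F) * form u v) (v : Fin m ⊕ Fin m → F) (c : F) :
    spFun g σ (tv v c) = tv (((g : GL (Fin m ⊕ Fin m) F) : Matrix (Fin m ⊕ Fin m) (Fin m ⊕ Fin m) F) *ᵥ fun i => σ (v i)) (σ c * ((μ⁻¹ : Fˣ) : F)) := by
  refine symp_ext fun x => ?_
  show (spFun g σ (tv v c) : Matrix (Fin m ⊕ Fin m) (Fin m ⊕ Fin m) F) *ᵥ x = _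
  rw [tv_smul, coe_spFun, ← Matrix.mulVec_mulVec, ← Matrix.mulVec_mulVec, mulVec_map_eq]
  set y := (((g : GL (Fin m ⊕ Fin m) F)⁻¹ : GL (Fin m ⊕ Fin m) F) : Matrix (Fin m ⊕ Fin m) (Fin m ⊕ Fin m) F) *ᵥ x with hy
  have hx : x = ((g : GL (Fin m ⊕ Fin m) F) : Matrix (Fin m ⊕ Fin m) (Fin m ⊕ Fin m) F) *ᵥ y := by
    rw [hy, Matrix.mulVec_mulVec, ← Units.val_mul, mul_inv_cancel, Units.val_one, Matrix.one_mulVec]
  have h1 : (fun i => σ ((((tv v c : Matrix.symplecticGroup (Fin m) F) : Matrix (Fin m ⊕ Fin m) (Fin m ⊕ Fin m) F) *ᵥ fun j => σ.symm (y j)) i)) =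
      y + (σ c * form y (fun i => σ (v i))) • fun i => σ (v i) := by
    funext i
    have := congrFun (tv_smul v c (fun j => σ.symm (y j))) i
    change (((tv v c : Matrix.symplecticGroup (Fin m) F) : Matrix (Fin m ⊕ Fin m) (Fin m ⊕ Fin m) F) *ᵥ fun j => σ.symm (y j)) i = _ at this
    rw [this]
    simp only [Pi.add_apply, Pi.smul_apply, smul_eq_mul, map_add, map_mul, RingEquiv.apply_symm_apply, map_form]
  rw [h1, Matrix.mulVec_add, Matrix.mulVec_smul, hx, hμ]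
  congr 2
  rw [mul_assoc, Units.inv_mul_cancel_left]

theorem map_spAut_xg (g : ↥(Cfsg.GSp m F)) (σ : RingAut F) (v : Fin m ⊕ Fin m → F) :
    (xg v).map (spAut g σ).toMonoidHom =
      xg (((g : GL (Fin m ⊕ Fin m) F) : Matrix (Fin m ⊕ Fin m) (Fin m ⊕ Fin m) F) *ᵥ fun i => σ (v i)) := by
  obtain ⟨μ, hμ⟩ := mem_GSp_iff.mp g.2
  ext x
  constructor
  · rintro ⟨y, hy, rfl⟩
    obtain ⟨c, rfl⟩ := mem_xg.mp hy
    exact mem_xg.mpr ⟨σ c * ((μ⁻¹ : Fˣ) : F), congrArg _ (spFun_tv g σ μ hμ v c).symm⟩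
  · intro hx
    obtain ⟨c, rfl⟩ := mem_xg.mp hx
    refine ⟨_, mk_tv_mem v (σ.symm (c * (μ : F))), ?_⟩
    show spAut g σ (QuotientGroup.mk (tv v (σ.symm (c * (μ : F))))) = _
    rw [spAut_mk, spFun_tv g σ μ hμ, RingEquiv.apply_symm_apply, Units.mul_inv_cancel_right]

end CfsgLib.AutPSp
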