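import Cfsg.Prelude.Def_LieTypeDatum
import Cfsg.Agent.Classical.SymplecticBasic
import Mathlib.Algebra.Ring.Aut

/-!
Automorphisms of `PSp_{2m}(F)` induced by semisimilitudes.
-/

set_option autoImplicit false

open Matrix

namespace CfsgLib.AutPSp

open CfsgLib.Symp

variable {F : Type*} [Field F] {m : ℕ}

theorem sympForm_eq (u v : Fin m ⊕ Fin m → F) : Cfsg.sympForm m F u v = form u v := rfl

theorem mem_GSp_iff {g : GL (Fin m ⊕ Fin m) F} :
    g ∈ Cfsg.GSp m F ↔ ∃ c : Fˣ, ∀ u v, form ((g : Matrix (Fin m ⊕ Fin m) (Fin m ⊕ Fin m) F) *ᵥ u)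
      ((g : Matrix (Fin m ⊕ Fin m) (Fin m ⊕ Fin m) F) *ᵥ v) = (c : F) * form u v := Iff.rfl

theorem map_form (σ : F ≃+* F) (u v : Fin m ⊕ Fin m → F) :
    σ (form u v) = form (fun i => σ (u i)) (fun i => σ (v i)) := by
  rw [form_apply, form_apply, map_sum]
  exact Finset.sum_congr rfl fun i _ => by rw [map_sub, map_mul, map_mul]

theorem map_mulVec (σ : F ≃+* F) (M : Matrix (Fin m ⊕ Fin m) (Fin m ⊕ Fin m) F) (u : Fin m ⊕ Fin m → F) :
    (fun i => σ ((M *ᵥ u) i)) = M.map σ *ᵥ fun i => σ (u i) := by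
  funext i
  simp [Matrix.mulVec, dotProduct, map_sum]

theorem mulVec_map_eq (σ : F ≃+* F) (M : Matrix (Fin m ⊕ Fin m) (Fin m ⊕ Fin m) F) (u : Fin m ⊕ Fin m → F) :
    M.map σ *ᵥ u = fun i => σ ((M *ᵥ fun j => σ.symm (u j)) i) := by
  rw [map_mulVec]
  simp

/-- Entrywise action of a field automorphism on `GL`. -/
def glMap (σ : F ≃+* F) : GL (Fin m ⊕ Fin m) F →* GL (Fin m ⊕ Fin m) F :=
  Matrix.GeneralLinearGroup.map (σ : F →+* F)

theorem coe_glMap (σ : F ≃+* F) (g : GL (Fin m ⊕ Fin m) F) :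
    (glMap σ g : Matrix (Fin m ⊕ Fin m) (Fin m ⊕ Fin m) F) =
      (g : Matrix (Fin m ⊕ Fin m) (Fin m ⊕ Fin m) F).map σ := rfl

theorem glMap_mem_GSp (σ : F ≃+* F) {g : GL (Fin m ⊕ Fin m) F} (hg : g ∈ Cfsg.GSp m F) :
    glMap σ g ∈ Cfsg.GSp m F := by
  obtain ⟨c, hc⟩ := mem_GSp_iff.mp hg
  refine mem_GSp_iff.mpr ⟨Units.map (σ : F →* F) c, fun u v => ?_⟩
  rw [coe_glMap, mulVec_map_eq, mulVec_map_eq, ← map_form, hc, map_mul, map_form]
  simp

/-- Entrywise action on the similitude group. -/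
def gspMap (σ : F ≃+* F) : ↥(Cfsg.GSp m F) →* ↥(Cfsg.GSp m F) :=
  ((glMap σ).comp (Cfsg.GSp m F).subtype).codRestrict _ fun g => glMap_mem_GSp σ g.2

theorem coe_gspMap (σ : F ≃+* F) (g : ↥(Cfsg.GSp m F)) :
    (gspMap σ g : GL (Fin m ⊕ Fin m) F) = glMap σ (g : GL (Fin m ⊕ Fin m) F) := rfl

theorem gspMap_mul_aut (σ τ : RingAut F) (g : ↥(Cfsg.GSp m F)) : gspMap (σ * τ) g = gspMap σ (gspMap τ g) :=
  Subtype.ext (Units.ext (by ext a b; rfl))

theorem gspMap_one_aut (g : ↥(Cfsg.GSp m F)) : gspMap (1 : RingAut F) g = g :=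
  Subtype.ext (Units.ext (by ext a b; rfl))

theorem conj_mem {g : GL (Fin m ⊕ Fin m) F} (hg : g ∈ Cfsg.GSp m F) (σ : F ≃+* F)
    (s : Matrix.symplecticGroup (Fin m) F) :
    (g : Matrix (Fin m ⊕ Fin m) (Fin m ⊕ Fin m) F) * (s : Matrix (Fin m ⊕ Fin m) (Fin m ⊕ Fin m) F).map σ *
      ((g⁻¹ : GL (Fin m ⊕ Fin m) F) : Matrix (Fin m ⊕ Fin m) (Fin m ⊕ Fin m) F) ∈ Matrix.symplecticGroup (Fin m) F := by
  obtain ⟨c, hc⟩ := mem_GSp_iff.mp hg
  refine mem_iff_form.mpr fun u v => ?_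
  have hcan : ∀ w, (g : Matrix (Fin m ⊕ Fin m) (Fin m ⊕ Fin m) F) *ᵥ
      (((g⁻¹ : GL (Fin m ⊕ Fin m) F) : Matrix (Fin m ⊕ Fin m) (Fin m ⊕ Fin m) F) *ᵥ w) = w := fun w => by
    rw [Matrix.mulVec_mulVec, ← Units.val_mul, mul_inv_cancel, Units.val_one, Matrix.one_mulVec]
  rw [← Matrix.mulVec_mulVec, ← Matrix.mulVec_mulVec, ← Matrix.mulVec_mulVec, ← Matrix.mulVec_mulVec, hc,
    mulVec_map_eq, mulVec_map_eq, ← map_form, mem_iff_form.mp s.2, map_form]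
  simp only [RingEquiv.apply_symm_apply]
  rw [← hc, hcan, hcan]

/-- The semilinear map on `Sp`. -/
def spFun (g : ↥(Cfsg.GSp m F)) (σ : F ≃+* F) (s : Matrix.symplecticGroup (Fin m) F) :
    Matrix.symplecticGroup (Fin m) F :=
  ⟨_, conj_mem g.2 σ s⟩

theorem coe_spFun (g : ↥(Cfsg.GSp m F)) (σ : F ≃+* F) (s : Matrix.symplecticGroup (Fin m) F) :
    (spFun g σ s : Matrix (Fin m ⊕ Fin m) (Fin m ⊕ Fin m) F) =
      ((g : GL (Fin m ⊕ Fin m) F) : Matrix (Fin m ⊕ Fin m) (Fin m ⊕ Fin m) F) *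
        (s : Matrix (Fin m ⊕ Fin m) (Fin m ⊕ Fin m) F).map σ *
      (((g : GL (Fin m ⊕ Fin m) F)⁻¹ : GL (Fin m ⊕ Fin m) F) : Matrix (Fin m ⊕ Fin m) (Fin m ⊕ Fin m) F) := rfl

theorem spFun_mul (g : ↥(Cfsg.GSp m F)) (σ : F ≃+* F) (s t : Matrix.symplecticGroup (Fin m) F) :
    spFun g σ (s * t) = spFun g σ s * spFun g σ t := by
  apply Subtype.ext
  simp only [Submonoid.coe_mul, coe_spFun, Matrix.map_mul]
  simp only [mul_assoc]
  rw [Units.inv_mul_cancel_left]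

theorem spFun_comp (g h : ↥(Cfsg.GSp m F)) (σ τ : RingAut F) (s : Matrix.symplecticGroup (Fin m) F) :
    spFun g σ (spFun h τ s) = spFun (g * gspMap σ h) (σ * τ) s := by
  apply Subtype.ext
  simp only [coe_spFun, Matrix.map_mul, Subgroup.coe_mul, Units.val_mul, _root_.mul_inv_rev, coe_gspMap, ← map_inv,
    coe_glMap, Matrix.map_map, mul_assoc]
  rfl

theorem spFun_one (s : Matrix.symplecticGroup (Fin m) F) : spFun 1 (1 : RingAut F) s = s :=
  Subtype.ext (by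
    rw [coe_spFun, OneMemClass.coe_one, inv_one, Units.val_one, one_mul, mul_one]
    ext a b; rfl)

/-- The semilinear automorphism of `Sp`. -/
def spEquiv (g : ↥(Cfsg.GSp m F)) (σ : RingAut F) :
    Matrix.symplecticGroup (Fin m) F ≃* Matrix.symplecticGroup (Fin m) F where
  toFun := spFun g σ
  invFun := spFun (gspMap (σ⁻¹ : RingAut F) g⁻¹) (σ⁻¹ : RingAut F)
  left_inv s := by
    rw [spFun_comp, inv_mul_cancel, ← map_mul, inv_mul_cancel, map_one, spFun_one]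
  right_inv s := by
    rw [spFun_comp, mul_inv_cancel, ← gspMap_mul_aut, mul_inv_cancel, gspMap_one_aut, mul_inv_cancel, spFun_one]
  map_mul' := spFun_mul g σ

theorem map_center_mulEquiv {G : Type*} [Group G] (e : G ≃* G) :
    (Subgroup.center G).map e.toMonoidHom = Subgroup.center G := by
  ext x
  constructor
  · rintro ⟨k, hk, rfl⟩
    exact Subgroup.mem_center_iff.mpr fun y => by
      obtain ⟨y, rfl⟩ := e.surjective y
      show e y * e k = e k * e y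
      rw [← map_mul, ← map_mul, Subgroup.mem_center_iff.mp hk y]
  · intro hx
    refine ⟨e.symm x, Subgroup.mem_center_iff.mpr fun y => e.injective ?_, e.apply_symm_apply x⟩
    rw [map_mul, map_mul, e.apply_symm_apply, Subgroup.mem_center_iff.mp hx]

/-- The automorphism of `PSp` induced by `v ↦ g σ(v)`. -/
def spAut (g : ↥(Cfsg.GSp m F)) (σ : RingAut F) : MulAut (Cfsg.PSp m F) :=
  QuotientGroup.congr _ _ (spEquiv g σ) (map_center_mulEquiv _)

theorem spAut_mk (g : ↥(Cfsg.GSp m F)) (σ : RingAut F) (s : Matrix.symplecticGroup (Fin m) F) :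
    spAut g σ (QuotientGroup.mk s) = QuotientGroup.mk (spFun g σ s) := rfl

theorem aut_ext {α β : MulAut (Cfsg.PSp m F)}
    (h : ∀ s : Matrix.symplecticGroup (Fin m) F, α (QuotientGroup.mk s) = β (QuotientGroup.mk s)) : α = β := by
  refine MulEquiv.ext fun x => ?_
  obtain ⟨s, rfl⟩ := QuotientGroup.mk_surjective x
  exact h s

theorem spAut_mul (g h : ↥(Cfsg.GSp m F)) (σ τ : RingAut F) :
    spAut g σ * spAut h τ = spAut (g * gspMap σ h) (σ * τ) :=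
  aut_ext fun s => by rw [MulAut.mul_apply, spAut_mk, spAut_mk, spAut_mk, spFun_comp]

theorem spAut_one : spAut (1 : ↥(Cfsg.GSp m F)) (1 : RingAut F) = 1 :=
  aut_ext fun s => by rw [spAut_mk, spFun_one]; rfl

theorem spAut_inv_mul (g : ↥(Cfsg.GSp m F)) (σ : RingAut F) :
    spAut (gspMap σ⁻¹ g⁻¹) σ⁻¹ * spAut g σ = 1 := by
  rw [spAut_mul, inv_mul_cancel, ← map_mul, inv_mul_cancel, map_one, spAut_one]

theorem spAut_eq_inndiag_mul (g : ↥(Cfsg.GSp m F)) (σ : RingAut F) :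
    spAut g σ = spAut g 1 * spAut 1 σ := by
  rw [spAut_mul, map_one, mul_one, one_mul]

theorem isInducedBySemilinear_iff {g : GL (Fin m ⊕ Fin m) F} (hg : g ∈ Cfsg.GSp m F) {σ : F ≃+* F}
    {β : MulAut (Cfsg.PSp m F)} : Cfsg.IsInducedBySemilinearPSp g σ β ↔ β = spAut ⟨g, hg⟩ σ := by
  refine ⟨fun h => aut_ext fun s => h s (spFun ⟨g, hg⟩ σ s) rfl, ?_⟩
  rintro rfl s s' hs'
  rw [spAut_mk, show spFun ⟨g, hg⟩ σ s = s' from Subtype.ext hs'.symm]

theorem isInnerDiagonal_iff {β : MulAut (Cfsg.PSp m F)} :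
    Cfsg.IsInnerDiagonalAutPSp β ↔ ∃ g : ↥(Cfsg.GSp m F), β = spAut g 1 := by
  constructor
  · rintro ⟨g, hg, h⟩
    exact ⟨⟨g, hg⟩, (isInducedBySemilinear_iff hg).mp h⟩
  · rintro ⟨g, rfl⟩
    exact ⟨g, g.2, (isInducedBySemilinear_iff g.2).mpr rfl⟩

theorem isStdField_iff {σ : F ≃+* F} {β : MulAut (Cfsg.PSp m F)} :
    Cfsg.IsStdFieldAutPSp σ β ↔ β = spAut (1 : ↥(Cfsg.GSp m F)) σ := by
  have hco : ∀ s : Matrix.symplecticGroup (Fin m) F,
      (spFun (1 : ↥(Cfsg.GSp m F)) σ s : Matrix (Fin m ⊕ Fin m) (Fin m ⊕ Fin m) F) =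
        (s : Matrix (Fin m ⊕ Fin m) (Fin m ⊕ Fin m) F).map σ := fun s => by
    rw [coe_spFun, OneMemClass.coe_one, inv_one, Units.val_one, one_mul, mul_one]
  refine ⟨fun h => aut_ext fun s => h s (spFun 1 σ s) (hco s), ?_⟩
  rintro rfl s s' hs'
  rw [spAut_mk, show spFun 1 σ s = s' from Subtype.ext ((hco s).trans hs'.symm)]

/-- Conjugation by a similitude. -/
def innDiagHom (m : ℕ) (F : Type*) [Field F] : ↥(Cfsg.GSp m F) →* MulAut (Cfsg.PSp m F) where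
  toFun g := spAut g 1
  map_one' := spAut_one
  map_mul' g h := by rw [spAut_mul, gspMap_one_aut, mul_one]

theorem innDiagHom_apply (g : ↥(Cfsg.GSp m F)) : innDiagHom m F g = spAut g 1 := rfl

theorem inndiag_eq_range : Cfsg.inndiagPSp m F = (innDiagHom m F).range := by
  refine le_antisymm (Subgroup.closure_le _ |>.mpr ?_) ?_
  · intro β hβ
    obtain ⟨g, hg⟩ := isInnerDiagonal_iff.mp hβ
    exact ⟨g, hg.symm⟩
  · rintro _ ⟨g, rfl⟩
    exact Subgroup.subset_closure (isInnerDiagonal_iff.mpr ⟨g, rfl⟩)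

/-- A symplectic matrix as a similitude. -/
def toGSp : Matrix.symplecticGroup (Fin m) F →* ↥(Cfsg.GSp m F) where
  toFun s := ⟨⟨(s : Matrix (Fin m ⊕ Fin m) (Fin m ⊕ Fin m) F),
      ((s⁻¹ : Matrix.symplecticGroup (Fin m) F) : Matrix (Fin m ⊕ Fin m) (Fin m ⊕ Fin m) F),
      by rw [← Submonoid.coe_mul, mul_inv_cancel]; rfl, by rw [← Submonoid.coe_mul, inv_mul_cancel]; rfl⟩,
    mem_GSp_iff.mpr ⟨1, fun u v => by simpa using mem_iff_form.mp s.2 u v⟩⟩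
  map_one' := Subtype.ext (Units.ext rfl)
  map_mul' s t := Subtype.ext (Units.ext rfl)

theorem coe_toGSp (s : Matrix.symplecticGroup (Fin m) F) :
    ((toGSp s : GL (Fin m ⊕ Fin m) F) : Matrix (Fin m ⊕ Fin m) (Fin m ⊕ Fin m) F) =
      (s : Matrix (Fin m ⊕ Fin m) (Fin m ⊕ Fin m) F) := rfl

theorem spAut_toGSp (k : Matrix.symplecticGroup (Fin m) F) :
    spAut (toGSp k) 1 = MulAut.conj (QuotientGroup.mk k : Cfsg.PSp m F) :=
  aut_ext fun s => by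
    rw [spAut_mk, MulAut.conj_apply, ← QuotientGroup.mk_inv, ← QuotientGroup.mk_mul, ← QuotientGroup.mk_mul]
    refine congrArg _ (Subtype.ext ?_)
    rw [coe_spFun]
    have hi : ((toGSp k : GL (Fin m ⊕ Fin m) F)⁻¹ : GL (Fin m ⊕ Fin m) F) = (toGSp k⁻¹ : GL (Fin m ⊕ Fin m) F) := by
      rw [map_inv, InvMemClass.coe_inv]
    rw [hi, coe_toGSp, coe_toGSp, Submonoid.coe_mul, Submonoid.coe_mul]
    congr 2

theorem inn_le_inndiag : Cfsg.Inn (Cfsg.PSp m F) ≤ Cfsg.inndiagPSp m F := by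
  rintro _ ⟨x, rfl⟩
  obtain ⟨k, rfl⟩ := QuotientGroup.mk_surjective x
  rw [inndiag_eq_range]
  exact ⟨toGSp k, spAut_toGSp k⟩

end CfsgLib.AutPSp
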