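import Cfsg.Agent.AutPSp.Out
import Cfsg.Agent.AutPSL.FieldClasses
import Cfsg.Agent.Forms.OfBilin
import Mathlib.LinearAlgebra.Matrix.SesquilinearForm
import Mathlib.Algebra.Ring.GeomSum

/-!
Field automorphisms of prime order of `PSp_{2m}`: classes, centralisers, splitting.
-/

set_option autoImplicit false

open Matrix

namespace CfsgLib.AutPSp

open CfsgLib.Symp

variable {F : Type*} [Field F] {m : ℕ}

/-- The twisted product of a similitude. -/
def twP (σ : RingAut F) (g : ↥(Cfsg.GSp m F)) : ℕ → ↥(Cfsg.GSp m F)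
  | 0 => 1
  | k + 1 => g * gspMap σ (twP σ g k)

theorem spAut_pow (g : ↥(Cfsg.GSp m F)) (σ : RingAut F) (k : ℕ) : spAut g σ ^ k = spAut (twP σ g k) (σ ^ k) := by
  induction k with
  | zero => rw [pow_zero, pow_zero]; exact spAut_one.symm
  | succ k ih => rw [pow_succ', ih, spAut_mul, pow_succ' σ]; rfl

theorem gspMap_scalarG (σ : RingAut F) (u : Fˣ) :
    gspMap σ (scalarG m F u) = scalarG m F (Units.map (σ : F →* F) u) := by
  apply Subtype.ext; apply Units.ext
  rw [coe_gspMap, coe_glMap, coe_scalarG, coe_scalarG]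
  ext a b
  rcases eq_or_ne a b with rfl | hab <;> simp [*]

theorem twP_scalar_mul (σ : RingAut F) (u : Fˣ) (g : ↥(Cfsg.GSp m F)) (k : ℕ) :
    twP σ (scalarG m F u * g) k = scalarG m F (CfsgLib.AutPSL.autNorm σ k u) * twP σ g k := by
  induction k with
  | zero => show (1 : ↥(Cfsg.GSp m F)) = scalarG m F (CfsgLib.AutPSL.autNorm σ 0 u) * 1
            rw [show CfsgLib.AutPSL.autNorm σ 0 u = 1 from rfl, map_one, one_mul]
  | succ k ih =>
    show scalarG m F u * g * gspMap σ (twP σ (scalarG m F u * g) k) = _ * (g * gspMap σ (twP σ g k))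
    rw [ih, map_mul, gspMap_scalarG, mul_assoc, ← mul_assoc g, ← scalarG_comm, mul_assoc, ← mul_assoc, ← map_mul]
    rfl

theorem muHom_twP [NeZero m] (σ : RingAut F) (g : ↥(Cfsg.GSp m F)) (k : ℕ) :
    muHom m F (twP σ g k) = CfsgLib.AutPSL.autNorm σ k (muHom m F g) := by
  induction k with
  | zero => exact map_one _
  | succ k ih =>
    show muHom m F (g * gspMap σ (twP σ g k)) = _
    rw [map_mul, muHom_gspMap, ih]; rfl

theorem scalarG_injective [NeZero m] : Function.Injective (scalarG m F) := fun u v h => by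
  have := congrArg (fun g : ↥(Cfsg.GSp m F) =>
    ((g : GL (Fin m ⊕ Fin m) F) : Matrix (Fin m ⊕ Fin m) (Fin m ⊕ Fin m) F) (Sum.inl 0) (Sum.inl 0)) h
  simp only [coe_scalarG] at this
  exact Units.ext (by simpa using this)

/-- Hilbert 90 for `GL` with arbitrary finite index. -/
theorem exists_mulVec_fix (σ : RingAut F) {r : ℕ} (hσr : σ ^ r = 1)
    (hinj : Function.Injective fun i : Fin r => σ ^ (i : ℕ)) (hr : 0 < r) (g : ↥(Cfsg.GSp m F)) (hg : twP σ g r = 1) :
    ∃ h : GL (Fin m ⊕ Fin m) F, (g : GL (Fin m ⊕ Fin m) F) * glMap σ h = h := by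
  let R : GL (Fin m ⊕ Fin m) F ≃* GL (Fin (m + m)) F :=
    Units.mapEquiv (Matrix.reindexAlgEquiv F F (finSumFinEquiv (m := m) (n := m))).toMulEquiv
  have hR : ∀ x, R (glMap σ x) = CfsgLib.AutPSL.glMap σ (R x) := fun x => Units.ext (by ext a b; rfl)
  have htw : ∀ k, CfsgLib.AutPSL.twistProd σ (R (g : GL (Fin m ⊕ Fin m) F)) k = R (twP σ g k : GL (Fin m ⊕ Fin m) F) := by
    intro k
    induction k with
    | zero => exact (map_one R).symm
    | succ k ih =>
      show _ = R ((g * gspMap σ (twP σ g k) : ↥(Cfsg.GSp m F)) : GL (Fin m ⊕ Fin m) F)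
      rw [CfsgLib.AutPSL.twistProd_succ, ih, Subgroup.coe_mul, map_mul, ← hR]
      rfl
  obtain ⟨h, hh⟩ := CfsgLib.AutPSL.exists_glMap_eq σ hσr hinj (R (g : GL (Fin m ⊕ Fin m) F))
    (by rw [htw, hg, Subgroup.coe_one, map_one]) hr
  refine ⟨R.symm h, R.injective ?_⟩
  rw [map_mul, hR, R.apply_symm_apply, hh]

theorem map_J {K L : Type*} [Field K] [Field L] (f : K →+* L) : (Matrix.J (Fin m) K).map f = Matrix.J (Fin m) L := by
  ext (a | a) (b | b) <;> simp [Matrix.J, Matrix.one_apply, apply_ite f]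

/-- An alternating non-degenerate matrix is congruent to the standard one. -/
theorem exists_congr_J {K : Type*} [Field K] (A : Matrix (Fin m ⊕ Fin m) (Fin m ⊕ Fin m) K)
    (halt : ∀ v, v ⬝ᵥ (A *ᵥ v) = 0) (hdet : A.det ≠ 0) :
    ∃ P : Matrix (Fin m ⊕ Fin m) (Fin m ⊕ Fin m) K, P.det ≠ 0 ∧ Pᵀ * A * P = Matrix.J (Fin m) K := by
  classical
  set B := Matrix.toBilin' A
  have hB : ∀ u v, B u v = u ⬝ᵥ (A *ᵥ v) := fun u v => Matrix.toBilin'_apply' A u v
  obtain ⟨m', k, b, h1, h2, h3, h4⟩ :=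
    CfsgLib.Forms.exists_symplectic_basis _ _ B (fun v => (hB v v).trans (halt v)) rfl
  obtain rfl : k = 0 := by
    by_contra hk
    have hnd := Matrix.nondegenerate_of_det_ne_zero hdet
    exact b.ne_zero (Sum.inr ⟨0, Nat.pos_of_ne_zero hk⟩) ((Matrix.nondegenerate_def.mp hnd).1 _ fun v => by
      rw [← hB]; exact h4 _ v)
  obtain rfl : m' = m := by
    have := Module.finrank_eq_card_basis b
    simp only [Module.finrank_fintype_fun_eq_card, Fintype.card_sum, Fintype.card_fin] at this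
    omega
  let c : Fin m' ⊕ Fin m' → (Fin m' ⊕ Fin m' → K) := fun x => b (Sum.inl x.swap)
  suffices hc : (Matrix.of fun r x => c x r)ᵀ * A * (Matrix.of fun r x => c x r) = Matrix.J (Fin m') K by
    refine ⟨Matrix.of fun r x => c x r, fun e0 => ?_, hc⟩
    have e := congrArg Matrix.det hc
    rw [Matrix.det_mul, e0, mul_zero] at e
    exact (Matrix.isUnit_det_J (Fin m') K).ne_zero e.symm
  ext x y
  have hentry : ((Matrix.of fun r x => c x r)ᵀ * A * Matrix.of fun r x => c x r) x y = B (c x) (c y) := by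
    rw [hB, Matrix.mul_assoc]
    simp only [Matrix.mul_apply, dotProduct, Matrix.mulVec, Matrix.transpose_apply, Matrix.of_apply]
  rw [hentry]
  have hanti : ∀ u v, B u v = -B v u := fun u v =>
    (LinearMap.IsAlt.neg (B := B) (fun w => (hB w w).trans (halt w)) v u).symm
  rcases x with x | x <;> rcases y with y | y <;> simp only [c, Sum.swap_inl, Sum.swap_inr]
  · rw [h3]; simp [Matrix.J]
  · rw [hanti, h1]; simp [Matrix.J, Matrix.one_apply, eq_comm]
  · rw [h1]; simp [Matrix.J, Matrix.one_apply]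
  · rw [h2]; simp [Matrix.J]

theorem form_eq_dot {K : Type*} [CommRing K] (M : Matrix (Fin m ⊕ Fin m) (Fin m ⊕ Fin m) K) (u v : Fin m ⊕ Fin m → K) :
    form (M *ᵥ u) (M *ᵥ v) = u ⬝ᵥ ((Mᵀ * Matrix.J (Fin m) K * M) *ᵥ v) := by
  rw [form, Matrix.mulVec_mulVec, dotProduct_comm (M *ᵥ u), Matrix.dotProduct_mulVec,
    dotProduct_comm, ← Matrix.mulVec_transpose, Matrix.mulVec_mulVec, Matrix.mul_assoc]

section Finite

variable [Finite F] [NeZero m]

/-- Hilbert 90 for `GSp`. -/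
theorem exists_gspMap_eq (σ : RingAut F) {r : ℕ} (hσr : σ ^ r = 1)
    (hinj : Function.Injective fun i : Fin r => σ ^ (i : ℕ)) (hr : 0 < r) (g : ↥(Cfsg.GSp m F)) (hg : twP σ g r = 1) :
    ∃ h : ↥(Cfsg.GSp m F), g * gspMap σ h = h := by
  classical
  obtain ⟨h0, hh0⟩ := exists_mulVec_fix σ hσr hinj hr g hg
  obtain ⟨w, hw⟩ := CfsgLib.AutPSL.exists_div_eq_of_autNorm σ hσr hinj hr (muHom m F g)
    (by rw [← muHom_twP, hg, map_one])
  set H : Matrix (Fin m ⊕ Fin m) (Fin m ⊕ Fin m) F := (h0 : Matrix (Fin m ⊕ Fin m) (Fin m ⊕ Fin m) F) with hH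
  set G : Matrix (Fin m ⊕ Fin m) (Fin m ⊕ Fin m) F := ((g : GL (Fin m ⊕ Fin m) F) : Matrix (Fin m ⊕ Fin m) (Fin m ⊕ Fin m) F) with hG
  have hGH : G * H.map σ = H := by
    have := congrArg (fun x : GL (Fin m ⊕ Fin m) F => (x : Matrix (Fin m ⊕ Fin m) (Fin m ⊕ Fin m) F)) hh0
    simpa [coe_glMap] using this
  set A : Matrix (Fin m ⊕ Fin m) (Fin m ⊕ Fin m) F := ((w⁻¹ : Fˣ) : F) • (Hᵀ * Matrix.J (Fin m) F * H) with hA
  have hA' : ∀ u v, u ⬝ᵥ (A *ᵥ v) = ((w⁻¹ : Fˣ) : F) * form (H *ᵥ u) (H *ᵥ v) := fun u v => by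
    rw [form_eq_dot, hA, Matrix.smul_mulVec, dotProduct_smul, smul_eq_mul]
  have hfix : ∀ a b, σ (A a b) = A a b := by
    intro a b
    have e := hA' (Pi.single a 1) (Pi.single b 1)
    simp only [Matrix.mulVec_single_one, single_dotProduct, one_mul, Matrix.col_apply] at e
    rw [e]
    have h1 := muHom_spec g (fun i => σ (H.col a i)) (fun i => σ (H.col b i))
    have hc : ∀ k, G *ᵥ (fun i => σ (H.col k i)) = H.col k := fun k => by
      conv_rhs => rw [← hGH]
      funext i; rfl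
    rw [← hG, hc, hc, ← map_form σ] at h1
    have hw' : (muHom m F g : F) * σ (w : F) = w := congrArg Units.val hw
    rw [map_mul]
    nth_rw 2 [h1]
    simp only [Units.val_inv_eq_inv_val, map_inv₀]
    have hw0 := w.ne_zero
    have hs0 : σ (w : F) ≠ 0 := fun e => hw0 (σ.injective (e.trans (map_zero σ).symm))
    field_simp
    linear_combination -(σ (form (H.col a) (H.col b))) * hw'
  set K := CfsgLib.AutPSL.fixField σ
  let A0 : Matrix (Fin m ⊕ Fin m) (Fin m ⊕ Fin m) K :=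
    Matrix.of fun a b => ⟨A a b, (CfsgLib.AutPSL.mem_fixField σ).mpr (hfix a b)⟩
  have hmap : A0.map K.subtype = A := by ext a b; rfl
  obtain ⟨P, hP, hPJ⟩ := exists_congr_J A0 (fun v => by
      apply K.subtype.injective
      rw [map_zero, RingHom.map_dotProduct, show K.subtype ∘ (A0 *ᵥ v) = A0.map K.subtype *ᵥ (K.subtype ∘ v) from
        funext fun i => RingHom.map_mulVec K.subtype A0 v i, hmap, hA', form_self, mul_zero])
    (fun e => by
      have e2 := congrArg K.subtype e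
      rw [RingHom.map_det, map_zero, RingHom.mapMatrix_apply, hmap, hA, Matrix.det_smul, Matrix.det_mul, Matrix.det_mul,
        Matrix.det_transpose] at e2
      have hJ : (Matrix.J (Fin m) F).det ≠ 0 := (Matrix.isUnit_det_J (Fin m) F).ne_zero
      simp [hH, Matrix.GeneralLinearGroup.det_ne_zero h0, hJ] at e2)
  set P' : Matrix (Fin m ⊕ Fin m) (Fin m ⊕ Fin m) F := P.map K.subtype with hP'
  have hPJ' : P'ᵀ * A * P' = Matrix.J (Fin m) F := by
    have := congrArg (fun M => M.map K.subtype) hPJ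
    simp only [Matrix.map_mul, Matrix.transpose_map, hmap] at this
    rw [hP', this, map_J]
  have hPdet : P'.det ≠ 0 := fun e => hP (K.subtype.injective (by rw [RingHom.map_det, map_zero]; exact e))
  let x : GL (Fin m ⊕ Fin m) F := h0 * Matrix.GeneralLinearGroup.mkOfDetNeZero P' hPdet
  have hx : ∀ u v, form ((x : Matrix (Fin m ⊕ Fin m) (Fin m ⊕ Fin m) F) *ᵥ u)
      ((x : Matrix (Fin m ⊕ Fin m) (Fin m ⊕ Fin m) F) *ᵥ v) = (w : F) * form u v := by
    intro u v
    have e : (x : Matrix (Fin m ⊕ Fin m) (Fin m ⊕ Fin m) F) = H * P' := rfl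
    have h2 : form u v = (P' *ᵥ u) ⬝ᵥ (A *ᵥ (P' *ᵥ v)) := by
      rw [form, ← hPJ', Matrix.mulVec_mulVec, dotProduct_comm (P' *ᵥ u), Matrix.dotProduct_mulVec _ P',
        dotProduct_comm, ← Matrix.mulVec_transpose, Matrix.mulVec_mulVec, Matrix.mul_assoc]
    rw [e, ← Matrix.mulVec_mulVec, ← Matrix.mulVec_mulVec, h2, hA', ← mul_assoc, Units.mul_inv, one_mul]
  refine ⟨⟨x, mem_GSp_iff.mpr ⟨w, hx⟩⟩, Subtype.ext (Units.ext ?_)⟩
  show G * (H * P').map σ = H * P'
  have hσP : P'.map σ = P' := by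
    ext a b
    exact (CfsgLib.AutPSL.mem_fixField σ).mp (P a b).2
  rw [Matrix.map_mul, ← Matrix.mul_assoc, hGH, hσP]

theorem spAut_scalar_mul (u : Fˣ) (g : ↥(Cfsg.GSp m F)) (σ : RingAut F) :
    spAut (scalarG m F u * g) σ = spAut g σ := by
  calc spAut (scalarG m F u * g) σ = spAut (scalarG m F u) 1 * spAut g σ := by
        rw [spAut_mul, gspMap_one_aut, one_mul]
    _ = _ := by rw [spAut_scalarG, one_mul]

/-- A semilinear element of the same prime order is conjugate to the standard one. -/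
theorem exists_conj_of_orderOf {r : ℕ} (hr : r.Prime) {σ : RingAut F} (hσ : orderOf σ = r)
    {g : ↥(Cfsg.GSp m F)} (hg : orderOf (spAut g σ) = r) :
    ∃ k : ↥(Cfsg.GSp m F), spAut g σ = spAut k 1 * spAut (1 : ↥(Cfsg.GSp m F)) σ * (spAut k 1)⁻¹ := by
  have hσr : σ ^ r = 1 := hσ ▸ pow_orderOf_eq_one σ
  have hinj := CfsgLib.AutPSL.injective_pow_of_orderOf hσ
  have h1 : spAut (twP σ g r) (1 : RingAut F) = 1 := by
    rw [← hσr, ← spAut_pow]
    exact hg ▸ pow_orderOf_eq_one _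
  obtain ⟨-, c, hc⟩ := spAut_eq_one h1
  have hfix : Units.map (σ : F →* F) c = c := by
    refine scalarG_injective (F := F) (m := m) ?_
    have hadd : ∀ a b, twP σ g (a + b) = twP σ g a * gspMap (σ ^ a) (twP σ g b) := by
      intro a b
      induction a with
      | zero => rw [Nat.zero_add, pow_zero, gspMap_one_aut]; exact (one_mul _).symm
      | succ a ih =>
        rw [Nat.succ_add]
        show g * gspMap σ (twP σ g (a + b)) = g * gspMap σ (twP σ g a) * _
        rw [ih, map_mul, mul_assoc, pow_succ', gspMap_mul_aut]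
    have e1 := hadd r 1
    have e2 : twP σ g (r + 1) = g * gspMap σ (twP σ g r) := rfl
    rw [e2, hσr, gspMap_one_aut, hc, gspMap_scalarG, show twP σ g 1 = g by
      show g * gspMap σ 1 = g
      rw [map_one, mul_one], scalarG_comm] at e1
    exact mul_left_cancel e1
  obtain ⟨u, hu⟩ := CfsgLib.AutPSL.exists_autNorm_eq σ hσr hinj hr.pos c hfix
  obtain ⟨k, hk⟩ := exists_gspMap_eq σ hσr hinj hr.pos (scalarG m F u⁻¹ * g)
    (by rw [twP_scalar_mul, hc, ← map_mul, map_inv, hu, inv_mul_cancel, map_one])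
  refine ⟨k, ?_⟩
  have hinv : (spAut k 1)⁻¹ = spAut k⁻¹ (1 : RingAut F) := (map_inv (innDiagHom m F) k).symm
  rw [hinv, spAut_mul, spAut_mul, gspMap_one_aut, mul_one, one_mul, mul_one, map_inv]
  rw [← eq_mul_inv_iff_mul_eq] at hk
  rw [← hk, spAut_scalar_mul]

omit [Finite F] [NeZero m] in
theorem spAut_split (g : ↥(Cfsg.GSp m F)) (σ : RingAut F) :
    spAut g σ = spAut (1 : ↥(Cfsg.GSp m F)) σ * spAut (gspMap σ⁻¹ g) 1 := by
  rw [spAut_mul, one_mul, mul_one, ← gspMap_mul_aut, mul_inv_cancel, gspMap_one_aut]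

omit [NeZero m] in
/-- Every automorphism is semilinear up to one commuting with all standard field automorphisms. -/
theorem exists_decomp (hm : 2 ≤ m) (α : MulAut (Cfsg.PSp m F)) :
    ∃ (e : MulAut (Cfsg.PSp m F)) (g : ↥(Cfsg.GSp m F)) (ρ : RingAut F), α = e * spAut g ρ ∧
      ∀ σ : RingAut F, e * spAut (1 : ↥(Cfsg.GSp m F)) σ = spAut (1 : ↥(Cfsg.GSp m F)) σ * e := by
  by_cases h2 : (2 : F) ≠ 0 ∨ 3 ≤ m
  · obtain ⟨g, ρ, rfl⟩ := exists_semi hm h2 α
    exact ⟨1, g, ρ, (one_mul _).symm, fun σ => by rw [one_mul, mul_one]⟩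
  · push Not at h2
    obtain rfl : m = 2 := by omega
    haveI : CharP F 2 := CharTwo.of_one_ne_zero_of_two_eq_zero one_ne_zero h2.1
    obtain ⟨g, ρ, rfl | rfl⟩ := exists_semi_or_tau α
    · exact ⟨1, g, ρ, (one_mul _).symm, fun σ => by rw [one_mul, mul_one]⟩
    · exact ⟨tau, g, ρ, rfl, tau_comm⟩

theorem fieldClass_normalForm (hm : 2 ≤ m) {x : MulAut (Cfsg.PSp m F)} (hx : Cfsg.IsFieldAutClassPSp x) :
    ∃ σ : RingAut F, σ ≠ 1 ∧ ∃ h ∈ Cfsg.inndiagPSp m F, x = h * spAut (1 : ↥(Cfsg.GSp m F)) σ * h⁻¹ := by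
  obtain ⟨α, σ, hσ, hx⟩ := hx
  obtain ⟨e, g, ρ, rfl, he⟩ := exists_decomp hm α
  set φ := spAut (1 : ↥(Cfsg.GSp m F)) σ
  set p := spAut (1 : ↥(Cfsg.GSp m F)) ρ with hp
  set a := spAut (gspMap ρ⁻¹ g) (1 : RingAut F) with ha
  have hα : spAut g ρ = p * a := spAut_split g ρ
  have hpφ : p * φ = φ * p := by
    rw [hp, spAut_mul, spAut_mul, map_one, map_one, CfsgLib.AutPSL.ringAut_comm]
  refine ⟨σ, hσ, a⁻¹, inv_mem (by rw [inndiag_eq_range]; exact ⟨_, rfl⟩), ?_⟩
  have h1 : e * p * (a * x * a⁻¹) * (e * p)⁻¹ = φ := by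
    refine Eq.trans ?_ (isStdField_iff.mp hx)
    rw [hα]; group
  have h2 : (e * p) * φ = φ * (e * p) := by rw [mul_assoc, hpφ, ← mul_assoc, he, mul_assoc]
  have h3 : a * x * a⁻¹ = φ := by
    rw [mul_inv_eq_iff_eq_mul, ← h2] at h1
    exact mul_left_cancel h1
  show x = a⁻¹ * φ * a⁻¹⁻¹
  rw [← h3]; group

omit [NeZero m] in
theorem orderOf_spAut_one [NeZero m] (σ : RingAut F) : orderOf (spAut (1 : ↥(Cfsg.GSp m F)) σ) = orderOf σ :=
  orderOf_injective
    ({ toFun := fun τ => spAut (1 : ↥(Cfsg.GSp m F)) τ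
       map_one' := spAut_one
       map_mul' := fun τ υ => by rw [spAut_mul, map_one, one_mul] } : RingAut F →* MulAut (Cfsg.PSp m F))
    (fun _ _ e => (spAut_eq_spAut e).1) σ

theorem orderOf_eq_iff_isConjUnder_field (hm : 2 ≤ m) {x δ : MulAut (Cfsg.PSp m F)}
    (hx : Cfsg.IsFieldAutClassPSp x) {r : ℕ} (hr : r.Prime) (hxr : orderOf x = r)
    (hδ : δ ∈ Cfsg.inndiagPSp m F) (hord : orderOf (δ * x) = r) :
    Cfsg.IsConjUnder (Cfsg.inndiagPSp m F) x (δ * x) := by
  obtain ⟨σ, -, h, hh, rfl⟩ := fieldClass_normalForm hm hx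
  rw [CfsgLib.AutPSL.orderOf_conj', orderOf_spAut_one] at hxr
  rw [CfsgLib.AutPSL.isConjUnder_iff_conj hh]
  have hd : h⁻¹ * δ * h ∈ Cfsg.inndiagPSp m F := mul_mem (mul_mem (inv_mem hh) hδ) hh
  rw [inndiag_eq_range] at hd
  obtain ⟨g, hg⟩ := hd
  have e : h⁻¹ * (δ * (h * spAut (1 : ↥(Cfsg.GSp m F)) σ * h⁻¹)) * h = spAut g σ := by
    rw [spAut_eq_inndiag_mul g σ, ← innDiagHom_apply, hg]; group
  have hord' : orderOf (spAut g σ) = r := by
    rw [← e, ← hord]
    simpa using CfsgLib.AutPSL.orderOf_conj' h⁻¹ (δ * (h * spAut (1 : ↥(Cfsg.GSp m F)) σ * h⁻¹))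
  obtain ⟨k, hk⟩ := exists_conj_of_orderOf hr hxr hord'
  rw [e]
  exact ⟨_, inndiag_eq_range (F := F) ▸ ⟨k, rfl⟩, hk⟩

end Finite

/-! ### Change of field -/

theorem mapGL_mem {K L : Type*} [Field K] [Field L] (f : K →+* L) {g : GL (Fin m ⊕ Fin m) K} (hg : g ∈ Cfsg.GSp m K) :
    Matrix.GeneralLinearGroup.map f g ∈ Cfsg.GSp m L := by
  obtain ⟨μ, hμ⟩ := mem_GSp_iff.mp hg
  refine mem_GSp_iff.mpr ⟨Units.map (f : K →* L) μ, fun u v => ?_⟩
  have hJ : (Matrix.J (Fin m) K).map f = Matrix.J (Fin m) L := map_J f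
  set G := (g : Matrix (Fin m ⊕ Fin m) (Fin m ⊕ Fin m) K)
  have hGJ : Gᵀ * Matrix.J (Fin m) K * G = (μ : K) • Matrix.J (Fin m) K := by
    ext a b
    have := hμ (Pi.single a 1) (Pi.single b 1)
    rw [form_eq_dot, form] at this
    simpa using this
  rw [form_eq_dot]
  have := congrArg (fun M => M.map f) hGJ
  simp only [Matrix.map_mul, Matrix.transpose_map, hJ] at this
  rw [show ((Matrix.GeneralLinearGroup.map f g : GL (Fin m ⊕ Fin m) L) : Matrix (Fin m ⊕ Fin m) (Fin m ⊕ Fin m) L) = G.map f from rfl,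
    this, show ((μ : K) • Matrix.J (Fin m) K).map f = f μ • Matrix.J (Fin m) L by
      rw [← hJ]; ext a b; simp [← congrFun (congrFun hJ a) b],
    Matrix.smul_mulVec, dotProduct_smul, smul_eq_mul]
  rfl

/-- Similitudes along a field map. -/
def gspHom {K L : Type*} [Field K] [Field L] (f : K →+* L) : ↥(Cfsg.GSp m K) →* ↥(Cfsg.GSp m L) where
  toFun g := ⟨Matrix.GeneralLinearGroup.map f (g : GL (Fin m ⊕ Fin m) K), mapGL_mem f g.2⟩
  map_one' := Subtype.ext (map_one _)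
  map_mul' a b := Subtype.ext (map_mul _ _ _)

theorem gspHom_scalarG {K L : Type*} [Field K] [Field L] (f : K →+* L) (u : Kˣ) :
    gspHom f (scalarG m K u) = scalarG m L (Units.map (f : K →* L) u) := by
  apply Subtype.ext; apply Units.ext
  show ((scalarG m K u : GL (Fin m ⊕ Fin m) K) : Matrix (Fin m ⊕ Fin m) (Fin m ⊕ Fin m) K).map f = _
  rw [coe_scalarG, coe_scalarG]
  ext a b
  rcases eq_or_ne a b with rfl | hab <;> simp [*]

theorem range_scalarG {K : Type*} [Field K] :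
    (scalarG m K).range = (Cfsg.Geo.scalars (Fin m ⊕ Fin m) K).subgroupOf (Cfsg.GSp m K) := by
  ext g
  rw [Subgroup.mem_subgroupOf, Cfsg.Geo.mem_scalars_iff]
  constructor
  · rintro ⟨u, rfl⟩; exact ⟨u, coe_scalarG u⟩
  · rintro ⟨u, hu⟩; exact ⟨u, Subtype.ext (Units.ext ((coe_scalarG u).trans hu.symm))⟩

theorem nonempty_PGSp_congr {K L : Type*} [Field K] [Field L] (e : K ≃+* L) :
    Nonempty (Cfsg.PGSp m K ≃* Cfsg.PGSp m L) := by
  let E : ↥(Cfsg.GSp m K) ≃* ↥(Cfsg.GSp m L) :=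
    { gspHom (e : K →+* L) with
      invFun := gspHom (e.symm : L →+* K)
      left_inv := fun g => Subtype.ext (Units.ext (by ext a b; exact e.symm_apply_apply _))
      right_inv := fun g => Subtype.ext (Units.ext (by ext a b; exact e.apply_symm_apply _)) }
  refine ⟨QuotientGroup.congr _ _ E ?_⟩
  rw [← range_scalarG, ← range_scalarG]
  ext g
  constructor
  · rintro ⟨_, ⟨u, rfl⟩, rfl⟩
    exact ⟨_, (gspHom_scalarG (e : K →+* L) u).symm⟩
  · rintro ⟨u, rfl⟩
    refine ⟨scalarG m K (Units.map ((e.symm : L →+* K) : L →* K) u), ⟨_, rfl⟩, ?_⟩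
    show gspHom (e : K →+* L) _ = _
    rw [gspHom_scalarG]
    exact congrArg _ (Units.ext (e.apply_symm_apply _))

section Centralizer

variable [Finite F] [NeZero m] (σ : RingAut F)

/-- Similitudes over the fixed field. -/
noncomputable def fixGSp : ↥(Cfsg.GSp m (CfsgLib.AutPSL.fixField σ)) →* ↥(Cfsg.GSp m F) :=
  gspHom (CfsgLib.AutPSL.fixField σ).subtype

omit [Finite F] in
theorem mem_range_fixGSp {g : ↥(Cfsg.GSp m F)} : g ∈ (fixGSp (m := m) σ).range ↔ gspMap σ g = g := by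
  set K := CfsgLib.AutPSL.fixField σ
  constructor
  · rintro ⟨k, rfl⟩
    apply Subtype.ext; apply Units.ext
    ext a b
    exact (CfsgLib.AutPSL.mem_fixField σ).mp
      (((k : GL (Fin m ⊕ Fin m) K) : Matrix (Fin m ⊕ Fin m) (Fin m ⊕ Fin m) K) a b).2
  · intro h
    set G := ((g : GL (Fin m ⊕ Fin m) F) : Matrix (Fin m ⊕ Fin m) (Fin m ⊕ Fin m) F) with hG
    have hmem : ∀ a b, G a b ∈ K := fun a b => (CfsgLib.AutPSL.mem_fixField σ).mpr (congrFun (congrFun
      (congrArg (fun k : ↥(Cfsg.GSp m F) => ((k : GL (Fin m ⊕ Fin m) F) : Matrix (Fin m ⊕ Fin m) (Fin m ⊕ Fin m) F)) h) a) b)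
    let M : Matrix (Fin m ⊕ Fin m) (Fin m ⊕ Fin m) K := Matrix.of fun a b => ⟨G a b, hmem a b⟩
    have hdet : M.det ≠ 0 := fun e => by
      have e2 := congrArg K.subtype e
      rw [RingHom.map_det, map_zero] at e2
      exact Matrix.GeneralLinearGroup.det_ne_zero (g : GL (Fin m ⊕ Fin m) F) e2
    have hμ : (muHom m F g : F) ∈ K := (CfsgLib.AutPSL.mem_fixField σ).mpr
      (congrArg Units.val ((muHom_gspMap σ g).symm.trans (congrArg (muHom m F) h)))
    have hM : Matrix.GeneralLinearGroup.mkOfDetNeZero M hdet ∈ Cfsg.GSp m K := by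
      refine mem_GSp_iff.mpr ⟨Units.mk0 ⟨_, hμ⟩ fun e => (muHom m F g).ne_zero (congrArg Subtype.val e), fun u v => ?_⟩
      apply K.subtype.injective
      have hmv : ∀ u, K.subtype ∘ (M *ᵥ u) = G *ᵥ (K.subtype ∘ u) := fun u =>
        funext fun i => RingHom.map_mulVec K.subtype M u i
      have hf : ∀ u v : Fin m ⊕ Fin m → K, K.subtype (form u v) = form (K.subtype ∘ u) (K.subtype ∘ v) := fun u v => by
        simp [form_apply]
      show K.subtype (form (M *ᵥ u) (M *ᵥ v)) = K.subtype (⟨_, hμ⟩ * form u v)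
      rw [hf, hmv, hmv, muHom_spec, map_mul, hf]
      rfl
    exact ⟨⟨_, hM⟩, Subtype.ext (Units.ext rfl)⟩

theorem centralizer_std_eq {r : ℕ} (hr : r.Prime) (hσ : orderOf σ = r) :
    Cfsg.inndiagPSp m F ⊓ Subgroup.centralizer {spAut (1 : ↥(Cfsg.GSp m F)) σ} =
      ((innDiagHom m F).comp (fixGSp σ)).range := by
  rw [MonoidHom.range_comp, inndiag_eq_range]
  have hcomm : ∀ g : ↥(Cfsg.GSp m F),
      spAut g 1 * spAut (1 : ↥(Cfsg.GSp m F)) σ = spAut (1 : ↥(Cfsg.GSp m F)) σ * spAut g 1 ↔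
        spAut g (1 : RingAut F) = spAut (gspMap σ g) 1 := fun g => by
    rw [spAut_mul, spAut_mul, gspMap_one_aut, mul_one, one_mul, one_mul, mul_one]
    refine ⟨fun e => ?_, fun e => by rw [spAut_eq_inndiag_mul g σ, e, ← spAut_eq_inndiag_mul]⟩
    obtain ⟨-, u, hu⟩ := spAut_eq_spAut e
    rw [hu, ← scalarG_comm, spAut_scalar_mul]
  ext x
  constructor
  · rintro ⟨⟨g, rfl⟩, hc⟩
    obtain ⟨-, c, hc'⟩ := spAut_eq_spAut ((hcomm g).mp (Subgroup.mem_centralizer_singleton_iff.mp hc))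
    have hσr : σ ^ r = 1 := hσ ▸ pow_orderOf_eq_one σ
    have hiter : ∀ k : ℕ, gspMap (σ ^ k) g = g * scalarG m F (CfsgLib.AutPSL.autNorm σ k c) := by
      intro k
      induction k with
      | zero =>
        rw [pow_zero, gspMap_one_aut, show CfsgLib.AutPSL.autNorm σ 0 c = 1 from rfl, map_one, mul_one]
      | succ k ih =>
        rw [pow_succ', gspMap_mul_aut, ih, map_mul, hc', gspMap_scalarG, mul_assoc, ← map_mul]
        rfl
    have hN : CfsgLib.AutPSL.autNorm σ r c = 1 := by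
      have := hiter r
      rw [hσr, gspMap_one_aut, left_eq_mul, ← map_one (scalarG m F)] at this
      exact scalarG_injective this
    obtain ⟨w, hw⟩ := CfsgLib.AutPSL.exists_div_eq_of_autNorm σ hσr (CfsgLib.AutPSL.injective_pow_of_orderOf hσ) hr.pos c hN
    refine ⟨g * scalarG m F w, (mem_range_fixGSp σ).mpr ?_, ?_⟩
    · rw [map_mul, hc', gspMap_scalarG, mul_assoc, ← map_mul, hw]
    · rw [map_mul, innDiagHom_apply (scalarG m F w), spAut_scalarG, mul_one]
  · rintro ⟨g, hg, rfl⟩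
    refine Subgroup.mem_inf.mpr ⟨⟨g, rfl⟩, Subgroup.mem_centralizer_singleton_iff.mpr ?_⟩
    exact (hcomm g).mpr (by rw [(mem_range_fixGSp σ).mp hg])

theorem ker_innDiag_fixGSp :
    ((innDiagHom m F).comp (fixGSp σ)).ker = (scalarG m (CfsgLib.AutPSL.fixField σ)).range := by
  set K := CfsgLib.AutPSL.fixField σ
  rw [← MonoidHom.comap_ker, ker_innDiag]
  ext g
  constructor
  · rintro ⟨u, hu⟩
    have h0 : ((u : F) • (1 : Matrix (Fin m ⊕ Fin m) (Fin m ⊕ Fin m) F)) =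
        ((g : GL (Fin m ⊕ Fin m) K) : Matrix (Fin m ⊕ Fin m) (Fin m ⊕ Fin m) K).map K.subtype := by
      rw [← coe_scalarG, hu]; rfl
    have hu' : (u : F) ∈ K := by
      have := congrFun (congrFun h0 (Sum.inl 0)) (Sum.inl 0)
      simp at this
      rw [this]; exact Subtype.coe_prop _
    refine ⟨Units.mk0 ⟨(u : F), hu'⟩ (fun e => u.ne_zero (congrArg Subtype.val e)), Subtype.ext (Units.ext ?_)⟩
    rw [coe_scalarG]
    ext a b
    have := congrFun (congrFun h0 a) b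
    rcases eq_or_ne a b with rfl | hab <;> simp [*] at this ⊢ <;> exact this
  · rintro ⟨u, rfl⟩
    exact ⟨_, (gspHom_scalarG K.subtype u).symm⟩

theorem mu_range_fixGSp :
    (fixGSp (m := m) σ).range.map (muHom m F) = CfsgLib.AutPSL.fixUnits σ := by
  ext u
  constructor
  · rintro ⟨g, hg, rfl⟩
    rw [CfsgLib.AutPSL.mem_fixUnits, ← muHom_gspMap, (mem_range_fixGSp σ).mp hg]
  · intro hu
    obtain ⟨g, hg, hval⟩ := exists_diag_similitude (fun _ : Fin m => (u : F)) (fun _ => 1) u fun _ => mul_one _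
    refine ⟨g, (mem_range_fixGSp σ).mpr (Subtype.ext (Units.ext ?_)), muHom_eq hg⟩
    have h1 : σ (u : F) = u := congrArg Units.val ((CfsgLib.AutPSL.mem_fixUnits σ).mp hu)
    rw [coe_gspMap, coe_glMap, hval, Matrix.diagonal_map (map_zero σ)]
    congr 1
    funext i
    rcases i with i | i <;> simp [h1]

end Centralizer

theorem gcd_two_geom (x r : ℕ) (hx : 2 ≤ x) (hr : r ≠ 0) :
    Nat.gcd 2 ((x ^ r - 1) / (x - 1)) = Nat.gcd (Nat.gcd 2 (x ^ r - 1)) r := by
  rw [← Nat.geomSum_eq hx]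
  rcases Nat.even_or_odd x with he | ho
  · have h1 : (∑ i ∈ Finset.range r, x ^ i) % 2 = 1 := by
      obtain ⟨j, rfl⟩ : ∃ j, r = j + 1 := ⟨r - 1, by omega⟩
      rw [Finset.sum_range_succ', pow_zero, Nat.add_mod, Finset.sum_nat_mod]
      simp [Nat.pow_mod, Nat.even_iff.mp he]
    have h2 : (x ^ r - 1) % 2 = 1 := by
      have h3 : x ^ r % 2 = 0 := by simp [Nat.pow_mod, Nat.even_iff.mp he, zero_pow hr]
      have : 1 ≤ x ^ r := Nat.one_le_pow _ _ (by omega)
      omega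
    rw [Nat.gcd_rec 2, h1, Nat.gcd_rec 2 (x ^ r - 1), h2]
    simp
  · have h1 : (∑ i ∈ Finset.range r, x ^ i) % 2 = r % 2 := by
      rw [Finset.sum_nat_mod]
      simp [Nat.pow_mod, Nat.odd_iff.mp ho]
    have h2 : (x ^ r - 1) % 2 = 0 := by
      have h3 : x ^ r % 2 = 1 := by simp [Nat.pow_mod, Nat.odd_iff.mp ho]
      omega
    rw [Nat.gcd_rec 2, h1, Nat.gcd_rec 2 (x ^ r - 1), h2, Nat.gcd_zero_left, Nat.gcd_rec 2 r]

/-- Centraliser and class splitting of a field automorphism of prime order. -/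
theorem field_centralizer [Fintype F] {p f : ℕ} [Fact p.Prime] (hf : 1 ≤ f) (hF : Fintype.card F = p ^ f) (hm : 2 ≤ m)
    {x : MulAut (Cfsg.PSp m F)} (hx : Cfsg.IsFieldAutClassPSp x) {r : ℕ} (hr : r.Prime) (hxr : orderOf x = r)
    (F₀ : Type*) [Field F₀] [Fintype F₀] (hF₀ : Fintype.card F₀ = p ^ (f / r)) :
    r ∣ f ∧ Nonempty (↥(Cfsg.inndiagPSp m F ⊓ Subgroup.centralizer {x}) ≃* Cfsg.PGSp m F₀) ∧
      Cfsg.splitClassCount (Cfsg.inndiagPSp m F) (Cfsg.Inn (Cfsg.PSp m F)) x =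
        Nat.gcd (Nat.gcd 2 (p ^ f - 1)) r := by
  classical
  have : NeZero m := ⟨by omega⟩
  obtain ⟨σ, -, h, hh, rfl⟩ := fieldClass_normalForm hm hx
  rw [CfsgLib.AutPSL.orderOf_conj', orderOf_spAut_one] at hxr
  obtain ⟨eA⟩ := CfsgLib.AutPSL.nonempty_ringAut_equiv (F := F) hf hF
  have hrf : r ∣ f := by
    have h1 := orderOf_dvd_natCard σ
    rwa [hxr, Nat.card_congr eA.toEquiv, Nat.card_congr Multiplicative.toAdd, Nat.card_zmod] at h1
  have hK : Nat.card (CfsgLib.AutPSL.fixField σ) = p ^ (f / r) := by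
    have h1 := CfsgLib.AutPSL.card_fixField_pow σ hxr
    rw [Nat.card_eq_fintype_card (α := F), hF] at h1
    apply Nat.pow_left_injective hr.ne_zero
    show Nat.card (CfsgLib.AutPSL.fixField σ) ^ r = (p ^ (f / r)) ^ r
    rw [h1, ← pow_mul, Nat.div_mul_cancel hrf]
  refine ⟨hrf, ?_, ?_⟩
  · obtain ⟨e1⟩ := CfsgLib.AutPSL.centralizer_conj_equiv (H := Cfsg.inndiagPSp m F)
      (x := spAut (1 : ↥(Cfsg.GSp m F)) σ) hh
    letI := Fintype.ofFinite (CfsgLib.AutPSL.fixField σ)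
    let eK : CfsgLib.AutPSL.fixField σ ≃+* F₀ := FiniteField.ringEquivOfCardEq (K := CfsgLib.AutPSL.fixField σ) (K' := F₀)
      (by rw [← Nat.card_eq_fintype_card, hK, hF₀])
    obtain ⟨eP⟩ := nonempty_PGSp_congr (m := m) eK
    exact ⟨e1.trans <| (MulEquiv.subgroupCongr (centralizer_std_eq σ hr hxr)).trans <|
      (QuotientGroup.quotientKerEquivRange _).symm.trans <|
      (QuotientGroup.quotientMulEquivOfEq ((ker_innDiag_fixGSp σ).trans range_scalarG)).trans eP⟩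
  · rw [CfsgLib.AutPSL.splitClassCount_conj hh, CfsgLib.AutPSL.splitClassCount_eq _ _ inn_le_inndiag,
      centralizer_std_eq σ hr hxr, MonoidHom.range_comp, relIndex_inn_sup _ _ (mu_range_fixGSp σ),
      CfsgLib.AutPSL.index_fixUnits, hK, Nat.card_eq_fintype_card, hF]
    have hx2 : 2 ≤ p ^ (f / r) := by
      rw [← hK]; exact Finite.one_lt_card
    have := gcd_two_geom (p ^ (f / r)) r hx2 hr.ne_zero
    rwa [← pow_mul, Nat.div_mul_cancel hrf] at this

/-- `Out(PSp_4(2^f))` is cyclic of order `2f`. -/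
theorem out_cyclic [Finite F] [CharP F 2] {f : ℕ} (he : Nat.card (RingAut F) = f) :
    IsCyclic (Cfsg.Out (Cfsg.PSp 2 F)) ∧ Nat.card (Cfsg.Out (Cfsg.PSp 2 F)) = 2 * f := by
  classical
  haveI : Finite (RingAut F) := Finite.of_injective (fun τ : RingAut F => (τ : F → F)) DFunLike.coe_injective
  letI := Fintype.ofFinite F
  obtain ⟨⟨k, hk0⟩, -, hk⟩ := FiniteField.card F 2
  change Fintype.card F = 2 ^ k at hk
  obtain ⟨e⟩ := CfsgLib.AutPSL.nonempty_ringAut_equiv (F := F) (p := 2) hk0 hk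
  have hkf : k = f := by
    rw [← he, Nat.card_congr e.toEquiv, Nat.card_congr Multiplicative.toAdd, Nat.card_zmod]
  have hfrob : orderOf (frob F) = f := by
    have hd : orderOf (frob F) ∣ f := he ▸ orderOf_dvd_natCard _
    refine Nat.le_antisymm (Nat.le_of_dvd (by omega) hd) ?_
    set i := orderOf (frob F) with hi
    have hi0 : 0 < i := orderOf_pos _
    have hiter : ∀ (j : ℕ) (x : F), (frob F ^ j) x = x ^ 2 ^ j := by
      intro j
      induction j with
      | zero => intro x; simp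
      | succ j ih =>
        intro x
        rw [pow_succ, RingAut.mul_apply, ih, frob_apply, ← pow_mul, ← pow_succ']
    have hroot : ∀ x : F, x ^ 2 ^ i = x := fun x => by
      rw [← hiter, hi, pow_orderOf_eq_one]; rfl
    by_contra hlt
    obtain ⟨g, hg⟩ := IsCyclic.exists_ofOrder_eq_natCard (α := Fˣ)
    have h1 : g ^ (2 ^ i - 1) = 1 := by
      refine mul_right_cancel (b := g) ?_
      rw [← pow_succ, Nat.sub_add_cancel Nat.one_le_two_pow, one_mul]
      exact Units.ext (by rw [Units.val_pow_eq_pow_val]; exact hroot _)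
    have h2 := orderOf_dvd_of_pow_eq_one h1
    rw [hg, Nat.card_units, Nat.card_eq_fintype_card, hk, hkf] at h2
    have h3 : 2 ^ i < 2 ^ f := Nat.pow_lt_pow_right (by omega) (by omega)
    have h4 : 2 ≤ 2 ^ i := by simpa using Nat.pow_le_pow_right (show 1 ≤ 2 by omega) hi0
    have := Nat.le_of_dvd (by omega) h2
    omega
  have hgcd : Nat.gcd 2 (Nat.card F - 1) = 1 := by
    rw [Nat.card_eq_fintype_card, hk, Nat.gcd_rec]
    have : 2 ^ k % 2 = 0 := by
      obtain ⟨j, rfl⟩ : ∃ j, k = j + 1 := ⟨k - 1, by omega⟩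
      simp [pow_succ]
    rw [show (2 ^ k - 1) % 2 = 1 by have := Nat.one_le_two_pow (n := k); omega]
    simp
  constructor
  · have hinn : Cfsg.inndiagPSp 2 F ≤ Cfsg.Inn (Cfsg.PSp 2 F) := Subgroup.relIndex_eq_one.mp (relIndex_inn.trans hgcd)
    set c : Cfsg.Out (Cfsg.PSp 2 F) := QuotientGroup.mk' _ tau with hc
    have hsemi : ∀ g σ, QuotientGroup.mk' (Cfsg.Inn (Cfsg.PSp 2 F)) (spAut g σ) ∈ Subgroup.zpowers c := by
      intro g σ
      have hσ : σ ∈ Subgroup.zpowers (frob F) := by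
        have : Subgroup.zpowers (frob F) = ⊤ := Subgroup.eq_top_of_card_eq _ (by rw [Nat.card_zpowers, hfrob, he])
        rw [this]; trivial
      obtain ⟨i, rfl⟩ := Subgroup.mem_zpowers_iff.mp hσ
      rw [spAut_eq_inndiag_mul, map_mul]
      have h1 : QuotientGroup.mk' (Cfsg.Inn (Cfsg.PSp 2 F)) (spAut g 1) = 1 :=
        (QuotientGroup.eq_one_iff _).mpr (hinn (inndiag_eq_range (F := F) ▸ ⟨g, rfl⟩))
      let S : RingAut F →* MulAut (Cfsg.PSp 2 F) :=
        { toFun := fun τ => spAut (1 : ↥(Cfsg.GSp 2 F)) τ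
          map_one' := spAut_one
          map_mul' := fun τ υ => by rw [spAut_mul, map_one, one_mul] }
      rw [h1, one_mul, show spAut (1 : ↥(Cfsg.GSp 2 F)) (frob F ^ i) = S (frob F ^ i) from rfl, map_zpow, map_zpow]
      refine Subgroup.zpow_mem _ ?_ i
      show QuotientGroup.mk' _ (spAut (1 : ↥(Cfsg.GSp 2 F)) (frob F)) ∈ _
      rw [← tau_sq, map_mul]
      exact mul_mem (Subgroup.mem_zpowers c) (Subgroup.mem_zpowers c)
    refine ⟨⟨c, fun x => ?_⟩⟩
    obtain ⟨α, rfl⟩ := QuotientGroup.mk'_surjective _ x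
    obtain ⟨g, σ, rfl | rfl⟩ := exists_semi_or_tau α
    · exact hsemi g σ
    · rw [map_mul]
      exact mul_mem (Subgroup.mem_zpowers c) (hsemi g σ)
  · have h := Subgroup.card_mul_index (semiGroup 2 F)
    rw [card_semiGroup, index_semiGroup_two, he, hgcd, one_mul] at h
    have h1 : Nat.card (Cfsg.Inn (Cfsg.PSp 2 F)) = Nat.card (Cfsg.PSp 2 F) :=
      (Nat.card_congr (MonoidHom.ofInjective conj_injective).toEquiv).symm
    have h2 := Subgroup.card_eq_card_quotient_mul_card_subgroup (Cfsg.Inn (Cfsg.PSp 2 F))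
    rw [h1, ← h] at h2
    exact Nat.eq_of_mul_eq_mul_right (Nat.card_pos (α := Cfsg.PSp 2 F)) (h2.symm.trans (by ring))

end CfsgLib.AutPSp
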