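import Cfsg.Agent.AutPSp.Main
import Cfsg.Agent.PrimeGraph.SzFix

/-!
The graph automorphism of `PSp_4(q)`, `q` even.
-/

set_option autoImplicit false

open Matrix

namespace CfsgLib.AutPSp

open CfsgLib.Symp Cfsg.Lie

variable {F : Type*} [Field F]

/-- Coordinates for the antidiagonal form. -/
def e4 : Fin 4 ≃ Fin 2 ⊕ Fin 2 where
  toFun := ![Sum.inl 0, Sum.inl 1, Sum.inr 1, Sum.inr 0]
  invFun := Sum.elim ![0, 1] ![3, 2]
  left_inv x := by fin_cases x <;> rfl
  right_inv x := by rcases x with x | x <;> fin_cases x <;> rfl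

/-- A symplectic matrix in the coordinates of `Cfsg.Lie.Sp4`. -/
def toFour : Matrix.symplecticGroup (Fin 2) F →* GL (Fin 4) F where
  toFun s := ⟨(s : Matrix (Fin 2 ⊕ Fin 2) (Fin 2 ⊕ Fin 2) F).submatrix e4 e4,
    ((s⁻¹ : Matrix.symplecticGroup (Fin 2) F) : Matrix (Fin 2 ⊕ Fin 2) (Fin 2 ⊕ Fin 2) F).submatrix e4 e4,
    by rw [Matrix.submatrix_mul_equiv, ← Submonoid.coe_mul, mul_inv_cancel, OneMemClass.coe_one, Matrix.submatrix_one_equiv],
    by rw [Matrix.submatrix_mul_equiv, ← Submonoid.coe_mul, inv_mul_cancel, OneMemClass.coe_one, Matrix.submatrix_one_equiv]⟩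
  map_one' := Units.ext (by simp)
  map_mul' s t := Units.ext (by simp [Matrix.submatrix_mul_equiv])

theorem form_e4 [CharP F 2] (u v : Fin 2 ⊕ Fin 2 → F) : form u v = altForm4 (fun x => u (e4 x)) fun x => v (e4 x) := by
  have h2 : (2 : F) = 0 := CharTwo.two_eq_zero
  simp [form_apply, altForm4, e4, Fin.sum_univ_two, CharTwo.sub_eq_add]
  ring

theorem toFour_mem [CharP F 2] (s : Matrix.symplecticGroup (Fin 2) F) : toFour s ∈ Sp4 F := by
  intro u v
  have key : ∀ w : Fin 4 → F, (fun x => ((s : Matrix (Fin 2 ⊕ Fin 2) (Fin 2 ⊕ Fin 2) F) *ᵥ fun y => w (e4.symm y)) (e4 x)) =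
      (Units.coeHom (Matrix (Fin 4) (Fin 4) F) (toFour s)) *ᵥ w := fun w => by
    funext x
    simp only [Matrix.mulVec, dotProduct, Units.coeHom_apply]
    exact (e4.sum_comp _).symm.trans (by simp [toFour])
  rw [← key, ← key, ← form_e4, mem_iff_form.mp s.2, form_e4]
  simp

/-- A basis of four vectors. -/
theorem laplace [CharP F 2] (a b c d : Fin 4 → F) :
    (Matrix.of ![a, b, c, d]).det =
      (a 0 * b 1 - a 1 * b 0) * (c 2 * d 3 - c 3 * d 2) + (a 0 * b 2 - a 2 * b 0) * (c 1 * d 3 - c 3 * d 1) +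
      (a 0 * b 3 - a 3 * b 0) * (c 1 * d 2 - c 2 * d 1) + (a 1 * b 2 - a 2 * b 1) * (c 0 * d 3 - c 3 * d 0) +
      (a 1 * b 3 - a 3 * b 1) * (c 0 * d 2 - c 2 * d 0) + (a 2 * b 3 - a 3 * b 2) * (c 0 * d 1 - c 1 * d 0) := by
  have two : (2 : F) = 0 := CharTwo.two_eq_zero
  simp [Matrix.det_succ_row_zero, Fin.sum_univ_succ, Fin.succAbove]
  grind

theorem det_sp4 [CharP F 2] {g : GL (Fin 4) F} (hg : g ∈ Sp4 F) : (g : Matrix (Fin 4) (Fin 4) F).det = 1 := by
  have h := congrArg Matrix.det (CfsgLib.SzFix.transpose_form hg)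
  rw [Matrix.det_mul, Matrix.det_mul, Matrix.det_transpose] at h
  have hJ : (CfsgLib.SzFix.J4 : Matrix (Fin 4) (Fin 4) F).det ≠ 0 := fun h0 => by
    have := congrArg Matrix.det (CfsgLib.SzFix.J4_mul_J4 (F := F))
    rw [Matrix.det_mul, h0, zero_mul, Matrix.det_one] at this
    exact zero_ne_one this
  have h1 : (g : Matrix (Fin 4) (Fin 4) F).det * (g : Matrix (Fin 4) (Fin 4) F).det = 1 :=
    mul_right_cancel₀ hJ (by rw [one_mul]; linear_combination h)
  rcases mul_self_eq_one_iff.mp h1 with e | e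
  · exact e
  · rw [e, CharTwo.neg_eq]

theorem det_cols [CharP F 2] {g : GL (Fin 4) F} (hg : g ∈ Sp4 F) (σ : Fin 4 → Fin 4) :
    (Matrix.of ![(g : Matrix (Fin 4) (Fin 4) F).col (σ 0), (g : Matrix (Fin 4) (Fin 4) F).col (σ 1),
      (g : Matrix (Fin 4) (Fin 4) F).col (σ 2), (g : Matrix (Fin 4) (Fin 4) F).col (σ 3)]).det =
      if Function.Injective σ then 1 else 0 := by
  have e : Matrix.of ![(g : Matrix (Fin 4) (Fin 4) F).col (σ 0), (g : Matrix (Fin 4) (Fin 4) F).col (σ 1),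
      (g : Matrix (Fin 4) (Fin 4) F).col (σ 2), (g : Matrix (Fin 4) (Fin 4) F).col (σ 3)] =
      (g : Matrix (Fin 4) (Fin 4) F)ᵀ.submatrix σ id := by
    ext x y; fin_cases x <;> rfl
  rw [e]
  split_ifs with hσ
  · have hb := Finite.injective_iff_bijective.mp hσ
    rw [show σ = ⇑(Equiv.ofBijective σ hb) from rfl, Matrix.det_permute, Matrix.det_transpose, det_sp4 hg, mul_one]
    rcases Int.units_eq_one_or (Equiv.Perm.sign (Equiv.ofBijective σ hb)) with h | h <;> simp [h, CharTwo.neg_eq]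
  · obtain ⟨x, y, hxy, hne⟩ := Function.not_injective_iff.mp hσ
    exact Matrix.det_zero_of_row_eq hne (funext fun z => by simp [hxy])

theorem star4_form [CharP F 2] {g : GL (Fin 4) F} (hg : g ∈ Sp4 F) (r s : Fin 4) :
    altForm4 ((star4 (g : Matrix (Fin 4) (Fin 4) F)).col r) ((star4 (g : Matrix (Fin 4) (Fin 4) F)).col s) =
      (CfsgLib.SzFix.J4 : Matrix (Fin 4) (Fin 4) F) r s := by
  have two : (2 : F) = 0 := CharTwo.two_eq_zero
  set G := (g : Matrix (Fin 4) (Fin 4) F) with hG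
  have hd := det_cols hg ![(pairOf r).1, (pairOf r).2, (pairOf s).1, (pairOf s).2]
  rw [laplace] at hd
  have hr := CfsgLib.SzFix.form_of_mem hg (pairOf r).1 (pairOf r).2
  have hs := CfsgLib.SzFix.form_of_mem hg (pairOf s).1 (pairOf s).2
  have hJ : ∀ q : Fin 4, (CfsgLib.SzFix.J4 : Matrix (Fin 4) (Fin 4) F) (pairOf q).1 (pairOf q).2 = 0 := by
    intro q; fin_cases q <;> simp [CfsgLib.SzFix.J4, pairOf]
  rw [hJ] at hr hs
  have hinj : (if Function.Injective ![(pairOf r).1, (pairOf r).2, (pairOf s).1, (pairOf s).2] then (1 : F) else 0) =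
      (CfsgLib.SzFix.J4 : Matrix (Fin 4) (Fin 4) F) r s := by
    fin_cases r <;> fin_cases s <;>
      simp [CfsgLib.SzFix.J4, pairOf, Function.Injective, Fin.forall_fin_succ]
  rw [← hinj, ← hd]
  simp only [altForm4, star4, pairOf, Matrix.col_apply, Matrix.of_apply, Matrix.cons_val_zero, Matrix.cons_val_one,
    Matrix.cons_val, CharTwo.sub_eq_add, ← hG] at *
  grind

/-- `star4` in symplectic coordinates. -/
def starMat (s : Matrix (Fin 2 ⊕ Fin 2) (Fin 2 ⊕ Fin 2) F) : Matrix (Fin 2 ⊕ Fin 2) (Fin 2 ⊕ Fin 2) F :=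
  (star4 (s.submatrix e4 e4)).submatrix e4.symm e4.symm

theorem starMat_mem [CharP F 2] (s : Matrix.symplecticGroup (Fin 2) F) :
    starMat (s : Matrix (Fin 2 ⊕ Fin 2) (Fin 2 ⊕ Fin 2) F) ∈ Matrix.symplecticGroup (Fin 2) F := by
  rw [SymplecticGroup.mem_iff']
  ext x y
  have h := star4_form (toFour_mem s) (e4.symm x) (e4.symm y)
  have h2 : (2 : F) = 0 := CharTwo.two_eq_zero
  have hcoe : ((toFour s : GL (Fin 4) F) : Matrix (Fin 4) (Fin 4) F) =
      (s : Matrix (Fin 2 ⊕ Fin 2) (Fin 2 ⊕ Fin 2) F).submatrix e4 e4 := rfl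
  rw [hcoe] at h
  have hJ : ∀ a b, Matrix.J (Fin 2) F a b = (CfsgLib.SzFix.J4 : Matrix (Fin 4) (Fin 4) F) (e4.symm a) (e4.symm b) := by
    intro a b
    rcases a with a | a <;> rcases b with b | b <;> fin_cases a <;> fin_cases b <;>
      simp [Matrix.J, CfsgLib.SzFix.J4, e4, CharTwo.neg_eq]
  rw [hJ, ← h]
  simp [starMat, Matrix.mul_apply, Matrix.J, altForm4, Fintype.sum_sum_type, Fin.sum_univ_two, e4, CharTwo.neg_eq,
    Matrix.one_apply]
  ring

/-- The graph endomorphism. -/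
def starHom [CharP F 2] : Matrix.symplecticGroup (Fin 2) F →* Matrix.symplecticGroup (Fin 2) F where
  toFun s := ⟨starMat (s : Matrix (Fin 2 ⊕ Fin 2) (Fin 2 ⊕ Fin 2) F), starMat_mem s⟩
  map_one' := Subtype.ext (by simp [starMat, CfsgLib.SzFix.star_one])
  map_mul' s t := Subtype.ext (by
    show starMat _ = starMat _ * starMat _
    unfold starMat
    rw [Matrix.submatrix_mul_equiv]
    congr 1
    have := CfsgLib.SzFix.star_mul (toFour_mem s) (toFour_mem t)
    simpa [toFour, Submonoid.coe_mul, Matrix.submatrix_mul_equiv] using this)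

variable [Finite F]

/-- Squaring. -/
noncomputable def frob (F : Type*) [Field F] [Finite F] [CharP F 2] : RingAut F :=
  RingEquiv.ofBijective (frobenius F 2) (Finite.injective_iff_bijective.mp (frobenius_inj F 2))

theorem frob_apply [CharP F 2] (x : F) : frob F x = x ^ 2 := rfl

theorem spFun_one_apply (σ : RingAut F) (s : Matrix.symplecticGroup (Fin 2) F) :
    (spFun (1 : ↥(Cfsg.GSp 2 F)) σ s : Matrix (Fin 2 ⊕ Fin 2) (Fin 2 ⊕ Fin 2) F) =
      (s : Matrix (Fin 2 ⊕ Fin 2) (Fin 2 ⊕ Fin 2) F).map σ := by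
  rw [coe_spFun, OneMemClass.coe_one, inv_one, Units.val_one, one_mul, mul_one]

theorem starHom_comm [CharP F 2] (σ : RingAut F) (s : Matrix.symplecticGroup (Fin 2) F) :
    starHom (spFun (1 : ↥(Cfsg.GSp 2 F)) σ s) = spFun (1 : ↥(Cfsg.GSp 2 F)) σ (starHom s) := by
  apply Subtype.ext
  show starMat _ = _
  rw [spFun_one_apply, spFun_one_apply]
  ext x y
  show starMat _ x y = σ (starMat _ x y)
  simp [starMat, star4]

set_option maxHeartbeats 4000000 in
theorem starHom_sq [CharP F 2] (s : Matrix.symplecticGroup (Fin 2) F) :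
    starHom (starHom s) = spFun (1 : ↥(Cfsg.GSp 2 F)) (frob F) s := by
  have two : (2 : F) = 0 := CharTwo.two_eq_zero
  suffices h : (starHom.comp starHom).eqLocus ((spEquiv (1 : ↥(Cfsg.GSp 2 F)) (frob F)).toMonoidHom) = ⊤ from
    (h.ge (Subgroup.mem_top s) : _)
  have key : ∀ (v : Fin 2 ⊕ Fin 2 → F), (∀ c, starHom (starHom (tv v c)) = spFun (1 : ↥(Cfsg.GSp 2 F)) (frob F) (tv v c)) →
      ∀ c, tv v c ∈ (starHom.comp starHom).eqLocus ((spEquiv (1 : ↥(Cfsg.GSp 2 F)) (frob F)).toMonoidHom) :=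
    fun v h c => h c
  refine eq_top_of_generators le_rfl _ (fun i c => key _ ?_ c) (fun i c => key _ ?_ c) (fun i j hij c => key _ ?_ c)
  all_goals
    intro c
    apply Subtype.ext
    rw [spFun_one_apply]
    show starMat (starMat (tvMat _ c)) = (tvMat _ c).map _
  · fin_cases i <;> ext (x | x) (y | y) <;> fin_cases x <;> fin_cases y <;>
      simp [starMat, star4, pairOf, e4, eV, tvMat, Matrix.vecMulVec, Matrix.J, Matrix.mulVec, dotProduct,
        Matrix.one_apply, Fintype.sum_sum_type, Fin.sum_univ_two, frob_apply, CharTwo.sub_eq_add, CharTwo.neg_eq] <;>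
      grind
  · fin_cases i <;> ext (x | x) (y | y) <;> fin_cases x <;> fin_cases y <;>
      simp [starMat, star4, pairOf, e4, fV, tvMat, Matrix.vecMulVec, Matrix.J, Matrix.mulVec, dotProduct,
        Matrix.one_apply, Fintype.sum_sum_type, Fin.sum_univ_two, frob_apply, CharTwo.sub_eq_add, CharTwo.neg_eq] <;>
      grind
  · obtain rfl : i = 0 := by fin_cases i <;> simp_all <;> omega
    obtain rfl : j = 1 := by fin_cases j <;> simp_all
    ext (x | x) (y | y) <;> fin_cases x <;> fin_cases y <;>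
      simp [starMat, star4, pairOf, e4, eV, tvMat, Matrix.vecMulVec, Matrix.J, Matrix.mulVec, dotProduct,
        Matrix.one_apply, Fintype.sum_sum_type, Fin.sum_univ_two, frob_apply, CharTwo.sub_eq_add, CharTwo.neg_eq] <;>
      grind

/-- The graph automorphism of the symplectic group. -/
noncomputable def starEquiv [CharP F 2] : Matrix.symplecticGroup (Fin 2) F ≃* Matrix.symplecticGroup (Fin 2) F :=
  MulEquiv.ofBijective starHom (Finite.injective_iff_bijective.mp fun s t e => by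
    have := congrArg starHom e
    rw [starHom_sq, starHom_sq] at this
    exact (spEquiv (1 : ↥(Cfsg.GSp 2 F)) (frob F)).injective this)

/-- The graph automorphism of `PSp_4`. -/
noncomputable def tau [CharP F 2] : MulAut (Cfsg.PSp 2 F) :=
  QuotientGroup.congr _ _ starEquiv (map_center_mulEquiv _)

theorem tau_mk [CharP F 2] (s : Matrix.symplecticGroup (Fin 2) F) :
    tau (QuotientGroup.mk s : Cfsg.PSp 2 F) = QuotientGroup.mk (starHom s) := rfl

theorem tau_sq [CharP F 2] : (tau : MulAut (Cfsg.PSp 2 F)) * tau = spAut (1 : ↥(Cfsg.GSp 2 F)) (frob F) :=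
  aut_ext fun s => by rw [MulAut.mul_apply, tau_mk, tau_mk, starHom_sq, spAut_mk]

theorem tau_comm [CharP F 2] (σ : RingAut F) :
    (tau : MulAut (Cfsg.PSp 2 F)) * spAut (1 : ↥(Cfsg.GSp 2 F)) σ = spAut (1 : ↥(Cfsg.GSp 2 F)) σ * tau :=
  aut_ext fun s => by rw [MulAut.mul_apply, MulAut.mul_apply, spAut_mk, tau_mk, tau_mk, spAut_mk, starHom_comm]

omit [Finite F] in
theorem starMat_tv [CharP F 2] (c : F) :
    starMat (tvMat (eV 0 : Fin 2 ⊕ Fin 2 → F) c) = Matrix.fromBlocks 1 !![0, c; c, 0] 0 1 := by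
  ext (x | x) (y | y) <;> fin_cases x <;> fin_cases y <;>
    simp [starMat, star4, pairOf, e4, eV, tvMat, Matrix.vecMulVec, Matrix.J, Matrix.mulVec, dotProduct,
      Matrix.one_apply, Fintype.sum_sum_type, Fin.sum_univ_two, CharTwo.sub_eq_add, CharTwo.neg_eq] <;>
    grind

end CfsgLib.AutPSp
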