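import Cfsg.Agent.AutPSp.Graph

/-!
Automorphisms of `PSp_4(q)`, `q` even: semilinear up to the graph automorphism.
-/

set_option autoImplicit false

open Matrix

namespace CfsgLib.AutPSp

open CfsgLib.Symp

variable {F : Type*} [Field F] [Finite F] [CharP F 2]

/-- The element is centralised by something of order not dividing four. -/
def Qc (z : Cfsg.PSp 2 F) : Prop := ∃ g, g * z = z * g ∧ g ^ 4 ≠ 1

omit [Finite F] [CharP F 2] in
theorem qc_map (α : MulAut (Cfsg.PSp 2 F)) {z : Cfsg.PSp 2 F} (h : Qc z) : Qc (α z) := by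
  obtain ⟨g, h1, h2⟩ := h
  exact ⟨α g, by rw [← map_mul, ← map_mul, h1], by rwa [← map_pow, ne_eq, MulEquiv.map_eq_one_iff]⟩

omit [Finite F] in
theorem qc_tv (c : F) : Qc (QuotientGroup.mk (tv (eV 0) c) : Cfsg.PSp 2 F) := by
  set M : Matrix.symplecticGroup (Fin 2) F := tv (eV 1) 1 * tv (fV 1) 1
  have h2 : (2 : F) = 0 := CharTwo.two_eq_zero
  have hef : form (eV 1 : Fin 2 ⊕ Fin 2 → F) (fV 1) = 1 := by simp [form_eV_left, fV, CharTwo.neg_eq]
  have hfe : form (fV 1 : Fin 2 ⊕ Fin 2 → F) (eV 1) = 1 := by simp [form_fV_left, eV]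
  have he : M • (eV 1 : Fin 2 ⊕ Fin 2 → F) = fV 1 := by
    rw [mul_smul, tv_smul (fV 1), hef, tv_smul, form_add_left, form_smul_left, form_self, hfe]
    funext x; simp; grind
  have hf : M • (fV 1 : Fin 2 ⊕ Fin 2 → F) = eV 1 + fV 1 := by
    rw [mul_smul, tv_smul_of_orth _ (form_self _), tv_smul, hfe]
    funext x; simp [add_comm]
  have h3 : M • M • M • (eV 1 : Fin 2 ⊕ Fin 2 → F) = eV 1 := by
    rw [he, hf, smul_add, he, hf]
    funext x; simp; grind
  refine ⟨QuotientGroup.mk M, ?_, fun e => ?_⟩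
  · rw [← QuotientGroup.mk_mul, ← QuotientGroup.mk_mul]
    refine congrArg _ (mul_inv_eq_iff_eq_mul.mp ?_)
    rw [tv_conj, mul_smul, tv_smul_of_orth (u := fV 1) _ (by simp [form_eV_left, fV]),
      tv_smul_of_orth _ (by simp [form_single_inl, eV])]
  · rw [← QuotientGroup.mk_pow, ← QuotientGroup.mk_one] at e
    have h4 := congrArg (fun g : Matrix.symplecticGroup (Fin 2) F => g • (eV 1 : Fin 2 ⊕ Fin 2 → F)) (mk_injective_two e)
    simp only [pow_succ', pow_zero, mul_one, mul_smul, one_smul] at h4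
    rw [h3, he] at h4
    simpa [eV, fV] using congrFun h4 (Sum.inl 1)

omit [Finite F] in
theorem not_qc_uni {x d : F} (hx : x ≠ 0) (hd : d ≠ 0) (hS : (!![x, d; d, 0] : Matrix (Fin 2) (Fin 2) F)ᵀ = !![x, d; d, 0]) :
    ¬ Qc (QuotientGroup.mk (uni _ hS) : Cfsg.PSp 2 F) := by
  rintro ⟨g, hg, hg4⟩
  obtain ⟨s, rfl⟩ := QuotientGroup.mk_surjective g
  apply hg4
  rw [← QuotientGroup.mk_mul, ← QuotientGroup.mk_mul] at hg
  have hcomm := congrArg Subtype.val (mk_injective_two hg)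
  obtain ⟨A, B, C, D, hblk⟩ : ∃ A B C D,
      (s : Matrix (Fin 2 ⊕ Fin 2) (Fin 2 ⊕ Fin 2) F) = Matrix.fromBlocks A B C D :=
    ⟨_, _, _, _, (Matrix.fromBlocks_toBlocks _).symm⟩
  set S : Matrix (Fin 2) (Fin 2) F := !![x, d; d, 0] with hSdef
  rw [Submonoid.coe_mul, Submonoid.coe_mul, hblk] at hcomm
  simp only [uni, Matrix.fromBlocks_multiply, Matrix.fromBlocks_inj, Matrix.mul_one,
      Matrix.one_mul, Matrix.mul_zero, Matrix.zero_mul, add_zero, zero_add] at hcomm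
  obtain ⟨h1, h2, -, -⟩ := hcomm
  have hC : C = 0 := by
    have h1' : S * C = 0 := left_eq_add.mp h1
    have hdet : IsUnit S.det := by
      rw [isUnit_iff_ne_zero, hSdef, Matrix.det_fin_two_of]
      simp [hd]
    calc C = S⁻¹ * (S * C) := (Matrix.nonsing_inv_mul_cancel_left S C hdet).symm
      _ = 0 := by rw [h1', Matrix.mul_zero]
  subst hC
  have hAS : A * S = S * D := by rw [add_comm B] at h2; exact add_right_cancel h2
  have hmem := s.2
  rw [hblk, SymplecticGroup.fromBlocks_mem_iff] at hmem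
  obtain ⟨-, -, h3⟩ := hmem
  have hAD : Aᵀ * D = 1 := by simpa using h3
  have hDA : D * Aᵀ = 1 := mul_eq_one_comm.mp hAD
  have hcong : A * S * Aᵀ = S := by rw [hAS, Matrix.mul_assoc, hDA, Matrix.mul_one]
  have two : (2 : F) = 0 := CharTwo.two_eq_zero
  have e11 := congrFun (congrFun hcong 1) 1
  have e00 := congrFun (congrFun hcong 0) 0
  have e01 := congrFun (congrFun hcong 0) 1
  simp [hSdef, Matrix.mul_apply, Fin.sum_univ_two] at e11 e00 e01
  have a10 : A 1 0 = 0 := by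
    have : x * (A 1 0 * A 1 0) = 0 := by linear_combination e11 - (A 1 0 * A 1 1 * d) * two
    simpa [hx] using this
  have a00 : A 0 0 = 1 := by
    have : x * (A 0 0 * A 0 0 - 1) = 0 := by linear_combination e00 - (A 0 0 * A 0 1 * d) * two
    have h := sub_eq_zero.mp ((mul_eq_zero.mp this).resolve_left hx)
    rcases mul_self_eq_one_iff.mp h with e | e
    · exact e
    · rw [e, CharTwo.neg_eq]
  have a11 : A 1 1 = 1 := by
    rw [a10, a00] at e01
    have : d * (A 1 1 - 1) = 0 := by linear_combination e01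
    exact sub_eq_zero.mp ((mul_eq_zero.mp this).resolve_left hd)
  have hA2 : A * A = 1 := by
    ext i j
    fin_cases i <;> fin_cases j <;> simp [Matrix.mul_apply, Fin.sum_univ_two, a10, a00, a11, Matrix.one_apply, CharTwo.add_self_eq_zero]
  have hD2 : D * D = 1 := by
    have h : Aᵀ * Aᵀ = 1 := by rw [← Matrix.transpose_mul, hA2, Matrix.transpose_one]
    have hD : D = Aᵀ := by
      calc D = Aᵀ * Aᵀ * D := by rw [h, Matrix.one_mul]
        _ = Aᵀ := by rw [Matrix.mul_assoc, hAD, Matrix.mul_one]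
    rw [hD, h]
  rw [← QuotientGroup.mk_pow]
  suffices e : s ^ 4 = 1 by rw [e]; rfl
  apply Subtype.ext
  obtain ⟨B', hB'⟩ := upper_pow A B D 2
  rw [SubmonoidClass.coe_pow, hblk, show 4 = 2 + 2 from rfl, pow_add, hB', OneMemClass.coe_one,
    ← Matrix.fromBlocks_one, Matrix.fromBlocks_multiply, pow_two, pow_two, hA2, hD2]
  have h0 : ∀ M : Matrix (Fin 2) (Fin 2) F, M + M = 0 := fun M => by ext i j; exact CharTwo.add_self_eq_zero _
  simp [Matrix.fromBlocks_inj, h0]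

omit [Finite F] in
theorem le_or_le_of_subset_union {G : Type*} [Group G] {S A B : Subgroup G}
    (h : ∀ x ∈ S, x ∈ A ∨ x ∈ B) : S ≤ A ∨ S ≤ B := by
  by_contra hc
  push Not at hc
  obtain ⟨a, ha, haA⟩ := SetLike.not_le_iff_exists.mp hc.1
  obtain ⟨b, hb, hbB⟩ := SetLike.not_le_iff_exists.mp hc.2
  have haB := (h a ha).resolve_left haA
  have hbA := (h b hb).resolve_right hbB
  rcases h _ (mul_mem ha hb) with e | e
  · exact haA (by simpa using mul_mem e (inv_mem hbA))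
  · exact hbB (by simpa using mul_mem (inv_mem haB) e)

theorem map_toHom_mul {G : Type*} [Group G] (α β : MulAut G) (H : Subgroup G) :
    H.map (α * β).toMonoidHom = (H.map β.toMonoidHom).map α.toMonoidHom := by
  rw [Subgroup.map_map]; rfl

omit [CharP F 2] in
theorem permutes_of_one {m : ℕ} (hm : 2 ≤ m) [NeZero m] (α : MulAut (Cfsg.PSp m F)) {w0 : Fin m ⊕ Fin m → F}
    (hw0 : w0 ≠ 0) (h : (xg (eV 0 : Fin m ⊕ Fin m → F)).map α.toMonoidHom = xg w0) :
    ∀ v : Fin m ⊕ Fin m → F, v ≠ 0 → ∃ w, w ≠ 0 ∧ (xg v).map α.toMonoidHom = xg w := by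
  intro v hv
  obtain ⟨g0, hg0⟩ := exists_smul_eq_of_ne_zero (eV_ne_zero (F := F) (0 : Fin m)) hv
  obtain ⟨k, hk⟩ := QuotientGroup.mk_surjective (α (QuotientGroup.mk g0))
  refine ⟨k • w0, fun e => hw0 (by rw [← inv_smul_smul k w0, e]; exact smul_zero _), ?_⟩
  rw [← hg0, ← map_conj_xg, ← map_conj_xg k, ← h, Subgroup.map_map, Subgroup.map_map]
  congr 1
  ext z
  simp [hk]

theorem tau_mk_tv (c : F) :
    tau (QuotientGroup.mk (tv (eV 0) c) : Cfsg.PSp 2 F) =
      QuotientGroup.mk (uni (!![0, c; c, 0] : Matrix (Fin 2) (Fin 2) F) (by ext i j; fin_cases i <;> fin_cases j <;> rfl)) := by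
  rw [tau_mk]
  exact congrArg _ (Subtype.ext (starMat_tv c))

theorem map_xg_cases (α : MulAut (Cfsg.PSp 2 F)) :
    (∀ v : Fin 2 ⊕ Fin 2 → F, v ≠ 0 → ∃ w, w ≠ 0 ∧ (xg v).map α.toMonoidHom = xg w) ∨
    ∀ v : Fin 2 ⊕ Fin 2 → F, v ≠ 0 → ∃ w, w ≠ 0 ∧ (xg v).map (tau⁻¹ * α).toMonoidHom = xg w := by
  haveI := Fact.mk Nat.prime_two
  obtain ⟨P, hP1, hP2⟩ := exists_sylow_center (F := F) (m := 2) le_rfl 2
  obtain ⟨β, t, hβ, hαv⟩ := exists_normalised le_rfl P α (eV_ne_zero (F := F) (0 : Fin 2))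
  set X := xg (eV 0 : Fin 2 ⊕ Fin 2 → F) with hX
  have hcase : ∀ z ∈ X.map β.toMonoidHom, z ∈ X ∨ z ∈ X.map (tau : MulAut (Cfsg.PSp 2 F)).toMonoidHom := by
    rintro _ ⟨y, hy, rfl⟩
    have hmem : β y ∈ (P : Subgroup (Cfsg.PSp 2 F)) := hβ.le ⟨y, (hP1 y hy).1, rfl⟩
    have hc : ∀ u ∈ (P : Subgroup (Cfsg.PSp 2 F)), β y * u = u * β y := by
      intro u hu
      obtain ⟨u', hu', rfl⟩ := hβ.ge hu
      show β y * β u' = β u' * β y
      rw [← map_mul, ← map_mul, (hP1 y hy).2 u' hu']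
    obtain ⟨B, hB, hyB, hBeq, -⟩ := hP2 _ hmem hc
    have hq : Qc (β y) := by
      obtain ⟨c, rfl⟩ := mem_xg.mp hy
      exact qc_map β (qc_tv c)
    have hBm : B = !![B 0 0, B 0 1; B 0 1, 0] := by
      rw [hBeq]
      ext i j; fin_cases i <;> fin_cases j <;> simp
    show β y ∈ X ∨ β y ∈ _
    rw [hyB] at hq ⊢
    rcases eq_or_ne (B 0 1) 0 with hd | hd
    · refine Or.inl (mem_xg.mpr ⟨B 0 0, congrArg _ ?_⟩)
      rw [eV, tv_single_eq_uni]
      exact uni_congr (by rw [hBm, hd]; ext i j; fin_cases i <;> fin_cases j <;> simp) _ _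
    rcases eq_or_ne (B 0 0) 0 with hx | hx
    · refine Or.inr ⟨_, mk_tv_mem (eV 0) (B 0 1), ?_⟩
      show tau _ = _
      rw [tau_mk_tv]
      exact congrArg _ (uni_congr (by rw [hBm, hx]; simp) _ _)
    · exfalso
      refine not_qc_uni hx hd (hBm ▸ hB) ?_
      rwa [uni_congr hBm hB (hBm ▸ hB)] at hq
  have hcard : ∀ γ : MulAut (Cfsg.PSp 2 F), Nat.card (X.map γ.toMonoidHom) = Nat.card X := fun γ =>
    Subgroup.card_map_of_injective γ.injective
  rcases le_or_le_of_subset_union hcase with h | h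
  · left
    have e := Subgroup.eq_of_le_of_card_ge h (hcard β).ge
    refine permutes_of_one le_rfl α (w0 := t • eV 0)
      (fun e => eV_ne_zero (F := F) (0 : Fin 2) (by rw [← inv_smul_smul t (eV 0 : Fin 2 ⊕ Fin 2 → F), e]; exact smul_zero _)) ?_
    rw [hαv, e, hX, map_conj_xg]
  · right
    have e := Subgroup.eq_of_le_of_card_ge h ((hcard tau).trans (hcard β).symm).le
    obtain ⟨t', ht'⟩ := QuotientGroup.mk_surjective ((tau : MulAut (Cfsg.PSp 2 F))⁻¹ (QuotientGroup.mk t))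
    refine permutes_of_one le_rfl _ (w0 := t' • eV 0)
      (fun e => eV_ne_zero (F := F) (0 : Fin 2) (by rw [← inv_smul_smul t' (eV 0 : Fin 2 ⊕ Fin 2 → F), e]; exact smul_zero _)) ?_
    rw [map_toHom_mul, hαv, e, ← map_conj_xg, Subgroup.map_map, Subgroup.map_map, ← hX]
    congr 1
    ext z
    simp [ht']

/-- Every automorphism is semilinear up to the graph automorphism. -/
theorem exists_semi_or_tau (α : MulAut (Cfsg.PSp 2 F)) :
    ∃ (g : ↥(Cfsg.GSp 2 F)) (σ : RingAut F), α = spAut g σ ∨ α = tau * spAut g σ := by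
  rcases map_xg_cases α with h | h
  · obtain ⟨g, σ, e⟩ := exists_semi_of_permutes le_rfl α h
    exact ⟨g, σ, Or.inl e⟩
  · obtain ⟨g, σ, e⟩ := exists_semi_of_permutes le_rfl _ h
    exact ⟨g, σ, Or.inr (by rw [← e, mul_inv_cancel_left])⟩

/-- The graph automorphism is not semilinear. -/
theorem tau_mul_ne (g h : ↥(Cfsg.GSp 2 F)) (σ ρ : RingAut F) : tau * spAut g σ ≠ spAut h ρ := by
  intro e
  have et : (tau : MulAut (Cfsg.PSp 2 F)) = spAut (h * (gspMap (ρ * σ⁻¹) g)⁻¹) (ρ * σ⁻¹) := by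
    rw [← mul_right_cancel_iff (a := spAut g σ), e, spAut_mul, inv_mul_cancel_right, inv_mul_cancel_right]
  have hmap : (tau : MulAut (Cfsg.PSp 2 F)) (QuotientGroup.mk (tv (eV 0) 1)) ∈
      (xg (eV 0 : Fin 2 ⊕ Fin 2 → F)).map (tau : MulAut (Cfsg.PSp 2 F)).toMonoidHom := ⟨_, mk_tv_mem _ 1, rfl⟩
  rw [tau_mk_tv] at hmap
  nth_rw 1 [et] at hmap
  rw [map_spAut_xg, mem_xg] at hmap
  obtain ⟨c, hc⟩ := hmap
  have h1 := fun x : Fin 2 ⊕ Fin 2 → F =>
    congrArg (fun k : Matrix.symplecticGroup (Fin 2) F => k • x) (mk_injective_two hc)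
  have h10 := h1 (fV 0)
  have h11 := h1 (fV 1)
  simp only [tv_smul] at h10 h11
  generalize hw : (_ : Fin 2 ⊕ Fin 2 → F) = w at h10 h11
  have a := congrFun h10 (Sum.inl 1)
  have b := congrFun h11 (Sum.inl 0)
  have a' := congrFun h10 (Sum.inl 0)
  simp [uni, Matrix.mulVec, fV, dotProduct, Fintype.sum_sum_type, Pi.single_apply] at a a' b
  generalize c * form (Pi.single (Sum.inr 0) (1 : F)) w = p at a a'
  generalize c * form (Pi.single (Sum.inr 1) (1 : F)) w = q at b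
  grind

end CfsgLib.AutPSp
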