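import Cfsg.Agent.AutPSp.Sylow

/-!
Automorphisms of `PSp_{2m}(q)` that permute transvection groups are semilinear.
-/

set_option autoImplicit false

open Matrix

namespace CfsgLib.AutPSp

open CfsgLib.Symp

variable {F : Type*} [Field F] {m : ℕ}

/-- The standard vector `f_i`. -/
def fV (i : Fin m) : Fin m ⊕ Fin m → F := Pi.single (Sum.inr i) 1

theorem fV_ne_zero (i : Fin m) : (fV i : Fin m ⊕ Fin m → F) ≠ 0 := Pi.single_ne_zero_iff.mpr one_ne_zero

theorem form_fV_left (i : Fin m) (v : Fin m ⊕ Fin m → F) : form (fV i) v = v (Sum.inl i) := by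
  rw [fV, form_single_inr, one_mul]

theorem form_eV_left (i : Fin m) (v : Fin m ⊕ Fin m → F) : form (eV i) v = -v (Sum.inr i) := by
  rw [eV, form_single_inl, one_mul]

/-- Conjugating one transvection group by an element. -/
theorem mk_conj_tv (k : Matrix.symplecticGroup (Fin m) F) (v : Fin m ⊕ Fin m → F) (c : F) :
    (QuotientGroup.mk k : Cfsg.PSp m F) * QuotientGroup.mk (tv v c) * (QuotientGroup.mk k)⁻¹ =
      QuotientGroup.mk (tv (k • v) c) := by
  rw [← QuotientGroup.mk_inv, ← QuotientGroup.mk_mul, ← QuotientGroup.mk_mul, tv_conj]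

variable [Finite F]

/-- If two transvections coincide then so do the lines and parameters. -/
theorem mk_tv_eq {u v : Fin m ⊕ Fin m → F} {a b : F} (hu : u ≠ 0) (hv : v ≠ 0) (ha : a ≠ 0)
    (h : (QuotientGroup.mk (tv u a) : Cfsg.PSp m F) = QuotientGroup.mk (tv v b)) :
    ∃ c : F, u = c • v ∧ c ^ 2 * a = b := by
  obtain ⟨p, hp, _⟩ := exists_prime_char (F := F)
  obtain ⟨c, hc⟩ := span_of_tv_eq hu ha (eq_of_mk_tv_eq hp (tv_pow_char u a) h)
  refine ⟨c, hc, mk_tv_injective hv ?_⟩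
  rw [← tv_smul_vec, ← hc, h]

/-- The rank one relations: on a hyperbolic pair a fixed pair of groups carries a field automorphism. -/
theorem pair_field (γ : MulAut (Cfsg.PSp m F)) {u v : Fin m ⊕ Fin m → F} (huv : form u v = 1) {fu fv : F → F}
    (hu : ∀ c, γ (QuotientGroup.mk (tv u c)) = QuotientGroup.mk (tv u (fu c)))
    (hv : ∀ c, γ (QuotientGroup.mk (tv v c)) = QuotientGroup.mk (tv v (fv c))) :
    (∀ x, x ≠ 0 → fu x * fv x⁻¹ = 1) ∧ ∀ y c, y ≠ 0 → fv (y ^ 2 * c) = fv y ^ 2 * fu c := by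
  have hu0 : u ≠ 0 := fun e => by rw [e, form_zero_left] at huv; exact zero_ne_one huv
  have hv0 : v ≠ 0 := fun e => by rw [e, form_zero_right] at huv; exact zero_ne_one huv
  have hw : ∀ x y : F, (tv u x * tv v y * tv u x) • u = (1 - x * y) • u + y • v := by
    intro x y
    rw [mul_smul, mul_smul, tv_smul u x u, form_self, mul_zero, zero_smul, add_zero, tv_smul v y u, huv, mul_one,
      tv_smul u x (u + y • v), form_add_left, form_self, form_smul_left, form_swap v u, huv]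
    funext i
    simp only [Pi.add_apply, Pi.smul_apply, smul_eq_mul]
    ring
  have himg : ∀ x y c : F, x * y = 1 →
      (QuotientGroup.mk (tv ((1 - fu x * fv y) • u + fv y • v) (fu c)) : Cfsg.PSp m F) =
        QuotientGroup.mk (tv v (fv (y ^ 2 * c))) := by
    intro x y c hxy
    have h1 := mk_conj_tv (tv u x * tv v y * tv u x) u c
    rw [hw, hxy, sub_self, zero_smul, zero_add, tv_smul_vec] at h1
    have h2 := congrArg γ h1
    simp only [map_mul, map_inv, QuotientGroup.mk_mul, hu, hv] at h2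
    rw [← QuotientGroup.mk_mul, ← QuotientGroup.mk_mul, mk_conj_tv, hw] at h2
    exact h2
  have hfu : Function.Injective fu := fun a b e => mk_tv_injective hu0 (γ.injective (by rw [hu, hu, e]))
  have hfu0 : fu 0 = 0 := by
    refine mk_tv_injective hu0 ?_
    rw [← hu, tv_zero, QuotientGroup.mk_one, map_one]
  have hfu1 : fu 1 ≠ 0 := fun e => one_ne_zero (hfu (e.trans hfu0.symm))
  have hrel : ∀ x, x ≠ 0 → fu x * fv x⁻¹ = 1 := by
    intro x hx
    have h := himg x x⁻¹ 1 (mul_inv_cancel₀ hx)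
    have hne : (1 - fu x * fv x⁻¹) • u + fv x⁻¹ • v ≠ 0 := fun e => by
      have e1 := congrArg (fun z => form z v) e
      have e2 := congrArg (fun z => form u z) e
      simp only [form_add_left, form_smul_left, form_self, huv, form_zero_left, mul_one, mul_zero, add_zero] at e1
      simp only [form_add_right, form_smul_right, form_self, huv, form_zero_right, mul_one, mul_zero, zero_add] at e2
      rw [e2, mul_zero, sub_zero] at e1
      exact one_ne_zero e1
    obtain ⟨c, hc, -⟩ := mk_tv_eq hne hv0 hfu1 h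
    have := congrArg (fun z => form z v) hc
    simp only [form_add_left, form_smul_left, form_self, huv, mul_one, mul_zero, add_zero, sub_eq_zero] at this
    exact this.symm
  refine ⟨hrel, fun y c hy => ?_⟩
  have h := himg y⁻¹ y c (inv_mul_cancel₀ hy)
  have h1 := hrel y⁻¹ (inv_ne_zero hy)
  rw [inv_inv] at h1
  rw [h1, sub_self, zero_smul, zero_add, tv_smul_vec] at h
  exact (mk_tv_injective hv0 h).symm

/-- A normalised fixed pair carries one field automorphism. -/
theorem pair_ringEquiv (γ : MulAut (Cfsg.PSp m F)) {u v : Fin m ⊕ Fin m → F} (huv : form u v = 1) {fu fv : F → F}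
    (hu : ∀ c, γ (QuotientGroup.mk (tv u c)) = QuotientGroup.mk (tv u (fu c)))
    (hv : ∀ c, γ (QuotientGroup.mk (tv v c)) = QuotientGroup.mk (tv v (fv c))) (h1 : fu 1 = 1) :
    ∃ σ : RingAut F, (∀ c, fu c = σ c) ∧ ∀ c, fv c = σ c := by
  have hu0 : u ≠ 0 := fun e => by rw [e, form_zero_left] at huv; exact zero_ne_one huv
  have hv0 : v ≠ 0 := fun e => by rw [e, form_zero_right] at huv; exact zero_ne_one huv
  obtain ⟨hrel, hsq⟩ := pair_field γ huv hu hv
  have hadd : ∀ a b, fu (a + b) = fu a + fu b := fun a b => mk_tv_injective hu0 (by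
    rw [← hu, ← tv_add, QuotientGroup.mk_mul, map_mul, hu, hu, ← QuotientGroup.mk_mul, tv_add])
  have h0 : fu 0 = 0 := by
    have := hadd 0 0
    rw [add_zero] at this
    exact left_eq_add.mp this
  have hv00 : fv 0 = 0 := by
    refine mk_tv_injective hv0 ?_
    rw [← hv, tv_zero, QuotientGroup.mk_one, map_one]
  have hinv : ∀ x, x ≠ 0 → fv x⁻¹ = (fu x)⁻¹ := fun x hx =>
    (inv_eq_of_mul_eq_one_right (hrel x hx)).symm
  have hne : ∀ x, x ≠ 0 → fu x ≠ 0 := fun x hx e => by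
    have := hrel x hx
    rw [e, zero_mul] at this
    exact zero_ne_one this
  have key : ∀ x c, x ≠ 0 → c ≠ 0 → fu (x ^ 2 / c) * fu c = fu x ^ 2 := by
    intro x c hx hc
    have h := hsq x⁻¹ c (inv_ne_zero hx)
    rw [show x⁻¹ ^ 2 * c = (x ^ 2 / c)⁻¹ by rw [inv_pow, inv_div]; ring,
      hinv _ (div_ne_zero (pow_ne_zero 2 hx) hc), hinv x hx, inv_pow] at h
    have h2 := hne _ (div_ne_zero (pow_ne_zero 2 hx) hc)
    have h3 := hne x hx
    field_simp at h
    linear_combination -h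
  have hsqr : ∀ x, fu (x ^ 2) = fu x ^ 2 := by
    intro x
    rcases eq_or_ne x 0 with rfl | hx
    · simp [h0]
    · simpa [h1] using key x 1 hx one_ne_zero
  have hmul : ∀ a b, fu (a * b) = fu a * fu b := by
    intro a b
    rcases eq_or_ne a 0 with rfl | ha
    · simp [h0]
    rcases eq_or_ne b 0 with rfl | hb
    · simp [h0]
    by_cases h2 : (2 : F) = 0
    · haveI := Fintype.ofFinite F
      haveI : CharP F 2 := CharTwo.of_one_ne_zero_of_two_eq_zero one_ne_zero h2
      obtain ⟨x, hx⟩ := (PerfectRing.bijective_frobenius (R := F) (p := 2)).2 (a * b)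
      change x ^ 2 = a * b at hx
      have hx0 : x ≠ 0 := fun e => mul_ne_zero ha hb (by rw [← hx, e]; ring)
      have := key x b hx0 hb
      rw [hx, mul_div_assoc, div_self hb, mul_one] at this
      rw [← hx, hsqr, ← this]
    · have e := hsqr (a + b)
      rw [show (a + b) ^ 2 = a ^ 2 + b ^ 2 + (a * b + a * b) by ring, hadd, hadd, hadd, hadd, hsqr, hsqr] at e
      apply mul_left_cancel₀ h2
      linear_combination e
  have hinj : Function.Injective fu := fun a b e => mk_tv_injective hu0 (γ.injective (by rw [hu, hu, e]))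
  let σ : RingAut F := RingEquiv.ofBijective
    ({ toFun := fu, map_one' := h1, map_mul' := hmul, map_zero' := h0, map_add' := hadd } : F →+* F)
    (Finite.injective_iff_bijective.mp hinj)
  refine ⟨σ, fun c => rfl, fun c => ?_⟩
  rcases eq_or_ne c 0 with rfl | hc
  · rw [hv00, map_zero]
  · have := hinv c⁻¹ (inv_ne_zero hc)
    rw [inv_inv] at this
    rw [this]
    show (σ c⁻¹)⁻¹ = σ c
    rw [map_inv₀, inv_inv]

/-- A vector in the `i`-th hyperbolic plane. -/
def pl (i : Fin m) (a b : F) : Fin m ⊕ Fin m → F := Pi.single (Sum.inl i) a + Pi.single (Sum.inr i) b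

omit [Finite F] in
theorem form_pl (i : Fin m) (a b : F) (v : Fin m ⊕ Fin m → F) :
    form v (pl i a b) = a * v (Sum.inr i) - b * v (Sum.inl i) := by
  rw [pl, form_add_right, form_swap v, form_single_inl, form_swap v, form_single_inr]
  ring

/-- Generation by the coordinate groups and the links between consecutive planes. -/
theorem eq_top_of_generators (hm : 2 ≤ m) (H : Subgroup (Matrix.symplecticGroup (Fin m) F))
    (he : ∀ i c, tv (eV i) c ∈ H) (hf : ∀ i c, tv (fV i) c ∈ H)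
    (hlink : ∀ (i j : Fin m), (j : ℕ) = i + 1 → ∀ c, tv (eV i + eV j) c ∈ H) : H = ⊤ := by
  let W : Set (Fin m ⊕ Fin m → F) := {v | ∀ c, tv v c ∈ H}
  have hW : ∀ h ∈ H, ∀ v ∈ W, h • v ∈ W := fun h hh v hv c => by
    rw [← tv_conj]; exact mul_mem (mul_mem hh (hv c)) (inv_mem hh)
  -- transitivity in a plane
  have hplane : ∀ (i : Fin m) (a b : F), (a ≠ 0 ∨ b ≠ 0) → ∃ h ∈ H, h • eV i = pl i a b ∧
      ∀ z : Fin m ⊕ Fin m → F, z (Sum.inl i) = 0 → z (Sum.inr i) = 0 → h • z = z := by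
    intro i a b hab
    have hee : (eV i : Fin m ⊕ Fin m → F) (Sum.inl i) = (1 : F) := by simp [eV]
    have hfix : ∀ (x : F) (z : Fin m ⊕ Fin m → F), z (Sum.inl i) = 0 → z (Sum.inr i) = 0 →
        tv (eV i) x • z = z ∧ tv (fV i) x • z = z := by
      intro x z h1 h2
      constructor <;> apply tv_smul_of_orth <;> rw [form_swap]
      · rw [form_eV_left, h2, neg_zero, neg_zero]
      · rw [form_fV_left, h1, neg_zero]
    have hone : ∀ a' b' : F, b' ≠ 0 → ∃ h ∈ H, h • eV i = pl i a' b' ∧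
        ∀ z : Fin m ⊕ Fin m → F, z (Sum.inl i) = 0 → z (Sum.inr i) = 0 → h • z = z := by
      intro a' b' hb'
      refine ⟨tv (eV i) ((a' - 1) / b') * tv (fV i) (-b'), mul_mem (he _ _) (hf _ _), ?_, fun z h1 h2 => ?_⟩
      · rw [mul_smul, tv_smul (fV i), form_swap, form_fV_left, hee, tv_smul, form_swap _ (eV i), form_eV_left]
        funext k
        rcases k with k | k <;> rcases eq_or_ne k i with rfl | hk <;>
          simp [pl, eV, fV, hb', *]
      · rw [mul_smul, (hfix _ z h1 h2).2, (hfix _ z h1 h2).1]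
    by_cases hb : b = 0
    · subst hb
      have ha : a ≠ 0 := hab.resolve_right (fun h => h rfl)
      obtain ⟨h, hh, h1, h2⟩ := hone a a ha
      refine ⟨tv (fV i) 1 * h, mul_mem (hf _ _) hh, ?_, fun z z1 z2 => ?_⟩
      · rw [mul_smul, h1, tv_smul, form_swap, form_fV_left]
        funext k
        rcases k with k | k <;> rcases eq_or_ne k i with rfl | hk <;> simp [pl, fV, *]
      · rw [mul_smul, h2 z z1 z2, (hfix _ z z1 z2).2]
    · exact hone a b hb
  have hsupp : ∀ i a b, (a ≠ 0 ∨ b ≠ 0) → pl i a b ∈ W := by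
    intro i a b hab
    obtain ⟨h, hh, e, -⟩ := hplane i a b hab
    rw [← e]; exact hW h hh _ (he i)
  have hpair : ∀ (i j : Fin m), (j : ℕ) = i + 1 → ∀ a b c d : F, (a ≠ 0 ∨ b ≠ 0) → (c ≠ 0 ∨ d ≠ 0) →
      pl i a b + pl j c d ∈ W := by
    intro i j hij a b c d hab hcd
    have hne : i ≠ j := fun e => by subst e; omega
    obtain ⟨h, hh, e, hfix⟩ := hplane i a b hab
    obtain ⟨k, hk, e', hfix'⟩ := hplane j c d hcd
    have := hW _ (mul_mem hh hk) _ (hlink i j hij)
    rwa [mul_smul, smul_add, e', hfix' (eV i) (by simp [eV, hne.symm]) (by simp [eV]), smul_add, e,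
      hfix (pl j c d) (by simp [pl, hne]) (by simp [pl, hne])] at this
  have hall : ∀ k : ℕ, ∀ v : Fin m ⊕ Fin m → F, v ≠ 0 →
      (∀ i : Fin m, k < (i : ℕ) → v (Sum.inl i) = 0 ∧ v (Sum.inr i) = 0) → v ∈ W := by
    intro k
    induction k with
    | zero =>
      intro v hv hsup
      let i : Fin m := ⟨0, by omega⟩
      have hveq : v = pl i (v (Sum.inl i)) (v (Sum.inr i)) := by
        funext x
        rcases x with x | x <;> rcases eq_or_ne x i with rfl | hx
        · simp [pl]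
        · rw [(hsup x (Nat.pos_of_ne_zero fun e => hx (Fin.ext e))).1]; simp [pl, hx]
        · simp [pl]
        · rw [(hsup x (Nat.pos_of_ne_zero fun e => hx (Fin.ext e))).2]; simp [pl, hx]
      rw [hveq]
      refine hsupp _ _ _ ?_
      by_contra hc
      push Not at hc
      rw [hc.1, hc.2] at hveq
      exact hv (hveq.trans (by funext x; simp [pl]))
    | succ k ih =>
      intro v hv hsup
      by_cases hk : k + 1 < m
      swap
      · exact ih v hv fun i hi => hsup i (by omega)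
      let i : Fin m := ⟨k, by omega⟩
      let j : Fin m := ⟨k + 1, hk⟩
      have hij : i ≠ j := by simp [i, j, Fin.ext_iff]
      have hless : ∀ v' : Fin m ⊕ Fin m → F, (∀ x : Fin m, k + 1 < (x : ℕ) → v' (Sum.inl x) = 0 ∧ v' (Sum.inr x) = 0) →
          v' (Sum.inl j) = 0 → v' (Sum.inr j) = 0 →
          ∀ x : Fin m, k < (x : ℕ) → v' (Sum.inl x) = 0 ∧ v' (Sum.inr x) = 0 := by
        intro v' h h1 h2 x hx
        by_cases hxj : x = j
        · subst hxj; exact ⟨h1, h2⟩
        · refine h x ?_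
          have : (x : ℕ) ≠ k + 1 := fun e => hxj (Fin.ext e)
          omega
      by_cases hj : v (Sum.inl j) = 0 ∧ v (Sum.inr j) = 0
      · exact ih v hv (hless v hsup hj.1 hj.2)
      have hjor : v (Sum.inl j) ≠ 0 ∨ v (Sum.inr j) ≠ 0 := not_and_or.mp hj
      -- step B
      have stepB : ∀ v : Fin m ⊕ Fin m → F, v ≠ 0 →
          (∀ x : Fin m, k + 1 < (x : ℕ) → v (Sum.inl x) = 0 ∧ v (Sum.inr x) = 0) →
          (v (Sum.inl i) ≠ 0 ∨ v (Sum.inr i) ≠ 0) → v ∈ W := by
        intro v hv hsup hi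
        by_cases hj : v (Sum.inl j) = 0 ∧ v (Sum.inr j) = 0
        · exact ih v hv (hless v hsup hj.1 hj.2)
        obtain ⟨a, b, hab, hκ⟩ : ∃ a b : F, (a ≠ 0 ∨ b ≠ 0) ∧ a * v (Sum.inr i) - b * v (Sum.inl i) ≠ 0 := by
          rcases hi with h | h
          · exact ⟨0, 1, Or.inr one_ne_zero, by simpa using h⟩
          · exact ⟨1, 0, Or.inl one_ne_zero, by simpa using h⟩
        set w := pl i a b + pl j (v (Sum.inl j)) (v (Sum.inr j)) with hw
        have hwW : w ∈ W := hpair i j rfl a b _ _ hab (not_and_or.mp hj)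
        set κ := a * v (Sum.inr i) - b * v (Sum.inl i) with hκdef
        have hform : form v w = κ := by
          rw [hw, form_add_right, form_pl, form_pl]; ring
        set t := tv w (-κ⁻¹)
        have ht : t • v = v - w := by
          rw [tv_smul, hform, neg_mul, inv_mul_cancel₀ hκ, neg_one_smul, sub_eq_add_neg]
        have hmem : t • v ∈ W := by
          refine ih _ (fun e => hv (by rw [← inv_smul_smul t v, e]; exact smul_zero _)) (hless _ ?_ ?_ ?_)
          · intro x hx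
            have h1 : x ≠ i := fun e => by subst e; simp [i] at hx
            have h2 : x ≠ j := fun e => by subst e; simp [j] at hx
            rw [ht]
            simp [hw, pl, h1, h2, (hsup x hx).1, (hsup x hx).2]
          · rw [ht]; simp [hw, pl, hij.symm]
          · rw [ht]; simp [hw, pl, hij.symm]
        have := hW _ (inv_mem (hwW _ : t ∈ H)) _ hmem
        rwa [inv_smul_smul] at this
      by_cases hi : v (Sum.inl i) ≠ 0 ∨ v (Sum.inr i) ≠ 0
      · exact stepB v hv hsup hi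
      -- step A
      push Not at hi
      obtain ⟨c, d, hcd, hκ⟩ : ∃ c d : F, (c ≠ 0 ∨ d ≠ 0) ∧ c * v (Sum.inr j) - d * v (Sum.inl j) ≠ 0 := by
        rcases hjor with h | h
        · exact ⟨0, 1, Or.inr one_ne_zero, by simpa using h⟩
        · exact ⟨1, 0, Or.inl one_ne_zero, by simpa using h⟩
      set w := pl i (1 : F) 0 + pl j c d with hw
      have hwW : w ∈ W := hpair i j rfl 1 0 c d (Or.inl one_ne_zero) hcd
      set t := tv w (1 : F)
      have hform : form v w = c * v (Sum.inr j) - d * v (Sum.inl j) := by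
        rw [hw, form_add_right, form_pl, form_pl, hi.1, hi.2]; ring
      have hmem : t • v ∈ W := by
        refine stepB _ (fun e => hv (by rw [← inv_smul_smul t v, e]; exact smul_zero _)) ?_ (Or.inl ?_)
        · intro x hx
          have h1 : x ≠ i := fun e => by subst e; simp [i] at hx
          have h2 : x ≠ j := fun e => by subst e; simp [j] at hx
          rw [tv_smul]
          simp [hw, pl, h1, h2, (hsup x hx).1, (hsup x hx).2]
        · rw [tv_smul, hform]
          simp [hw, pl, hij, hi.1]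
          exact hκ
      have := hW _ (inv_mem (hwW _ : t ∈ H)) _ hmem
      rwa [inv_smul_smul] at this
  refine eq_top_iff.mpr ((tvGroup_eq_top (l := Fin m) (F := F)).symm.le.trans ((Subgroup.closure_le _).mpr ?_))
  rintro _ ⟨w, -, c, rfl⟩
  rcases eq_or_ne w 0 with rfl | hw
  · rw [show tv (0 : Fin m ⊕ Fin m → F) c = 1 from symp_ext fun x => by simp [tv_smul]]
    exact one_mem _
  · exact hall m w hw (fun i hi => absurd i.2 (by omega)) c

/-- Transfer of parameters under a semisimilitude. -/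
theorem spAut_tv (g : ↥(Cfsg.GSp m F)) (σ : RingAut F) (μ : Fˣ)
    (hμ : ∀ u v, form (((g : GL (Fin m ⊕ Fin m) F) : Matrix (Fin m ⊕ Fin m) (Fin m ⊕ Fin m) F) *ᵥ u)
      (((g : GL (Fin m ⊕ Fin m) F) : Matrix (Fin m ⊕ Fin m) (Fin m ⊕ Fin m) F) *ᵥ v) = (μ : F) * form u v)
    (v : Fin m ⊕ Fin m → F) (c : F) :
    spAut g σ (QuotientGroup.mk (tv v c)) = QuotientGroup.mk
      (tv (((g : GL (Fin m ⊕ Fin m) F) : Matrix (Fin m ⊕ Fin m) (Fin m ⊕ Fin m) F) *ᵥ fun i => σ (v i))
        (σ c * ((μ⁻¹ : Fˣ) : F))) := by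
  rw [spAut_mk, spFun_tv g σ μ hμ]

omit [Finite F] in
theorem map_single_one (σ : RingAut F) (k : Fin m ⊕ Fin m) :
    (fun i => σ ((Pi.single k 1 : Fin m ⊕ Fin m → F) i)) = Pi.single k 1 := by
  funext i; rcases eq_or_ne i k with rfl | h <;> simp [*]

omit [Finite F] in
/-- A diagonal similitude. -/
theorem exists_diag_similitude (α β : Fin m → F) (μ : Fˣ) (h : ∀ i, α i * β i = μ) :
    ∃ g : ↥(Cfsg.GSp m F),
      (∀ u v, form (((g : GL (Fin m ⊕ Fin m) F) : Matrix (Fin m ⊕ Fin m) (Fin m ⊕ Fin m) F) *ᵥ u)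
        (((g : GL (Fin m ⊕ Fin m) F) : Matrix (Fin m ⊕ Fin m) (Fin m ⊕ Fin m) F) *ᵥ v) = (μ : F) * form u v) ∧
      ((g : GL (Fin m ⊕ Fin m) F) : Matrix (Fin m ⊕ Fin m) (Fin m ⊕ Fin m) F) = Matrix.diagonal (Sum.elim α β) := by
  classical
  have hdet : (Matrix.diagonal (Sum.elim α β)).det ≠ 0 := by
    rw [Matrix.det_diagonal, Finset.prod_ne_zero_iff]
    rintro (i | i) - e <;> simp only [Sum.elim_inl, Sum.elim_inr] at e
    · exact μ.ne_zero (by rw [← h i, e, zero_mul])
    · exact μ.ne_zero (by rw [← h i, e, mul_zero])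
  have hs : ∀ u v, form (Matrix.diagonal (Sum.elim α β) *ᵥ u) (Matrix.diagonal (Sum.elim α β) *ᵥ v) =
      (μ : F) * form u v := fun u v => by
    rw [form_apply, form_apply, Finset.mul_sum]
    refine Finset.sum_congr rfl fun i _ => ?_
    simp only [Matrix.mulVec_diagonal, Sum.elim_inl, Sum.elim_inr]
    rw [← h i]; ring
  exact ⟨⟨Matrix.GeneralLinearGroup.mkOfDetNeZero _ hdet, mem_GSp_iff.mpr ⟨μ, hs⟩⟩, hs, rfl⟩

set_option maxHeartbeats 1000000 in
/-- An automorphism fixing all coordinate groups is semilinear. -/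
theorem exists_semi_of_fix (hm : 2 ≤ m) (γ : MulAut (Cfsg.PSp m F))
    (hperm : ∀ v : Fin m ⊕ Fin m → F, v ≠ 0 → ∃ w, w ≠ 0 ∧ (xg v).map γ.toMonoidHom = xg w)
    (hfix : ∀ k : Fin m ⊕ Fin m, (xg (Pi.single k (1 : F))).map γ.toMonoidHom = xg (Pi.single k 1)) :
    ∃ (g : ↥(Cfsg.GSp m F)) (σ : RingAut F), γ = spAut g σ := by
  classical
  have : NeZero m := ⟨by omega⟩
  have hparam : ∀ k c, ∃ d, γ (QuotientGroup.mk (tv (Pi.single k 1) c)) = QuotientGroup.mk (tv (Pi.single k 1) d) := by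
    intro k c
    have : γ (QuotientGroup.mk (tv (Pi.single k 1) c)) ∈ xg (Pi.single k (1 : F)) := by
      rw [← hfix k]; exact ⟨_, mk_tv_mem _ c, rfl⟩
    obtain ⟨d, hd⟩ := mem_xg.mp this
    exact ⟨d, hd.symm⟩
  choose a ha using hparam
  have hane : ∀ k, a k 1 ≠ 0 := fun k e => by
    have h := ha k 1
    rw [e, tv_zero, QuotientGroup.mk_one, MulEquiv.map_eq_one_iff] at h
    exact mk_tv_ne_one (Pi.single_ne_zero_iff.mpr one_ne_zero) one_ne_zero h
  -- swaps of planes
  have hswap : ∀ i j : Fin m, ∃ k : Matrix.symplecticGroup (Fin m) F, k • (eV i : Fin m ⊕ Fin m → F) = eV j ∧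
      k • (fV i : Fin m ⊕ Fin m → F) = fV j ∧ k • (eV j : Fin m ⊕ Fin m → F) = eV i := by
    intro i j
    let π : Matrix (Fin m) (Fin m) F := (Equiv.swap i j).toPEquiv.toMatrix
    have hπ : πᵀ * π = 1 := by
      rw [← PEquiv.toMatrix_symm, ← PEquiv.toMatrix_trans, ← Equiv.toPEquiv_symm, ← Equiv.toPEquiv_trans,
        Equiv.symm_trans_self, Equiv.toPEquiv_refl, PEquiv.toMatrix_refl]
    have hcol : ∀ x y, π x y = if Equiv.swap i j x = y then 1 else 0 := fun x y => by
      simp [π, PEquiv.toMatrix, Equiv.toPEquiv]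
    have e1 : ∀ x, (Equiv.swap i j x = i ↔ x = j) := fun x => by rw [Equiv.swap_apply_eq_iff, Equiv.swap_apply_left]
    have e2 : ∀ x, (Equiv.swap i j x = j ↔ x = i) := fun x => by rw [Equiv.swap_apply_eq_iff, Equiv.swap_apply_right]
    refine ⟨levi π π hπ, ?_, ?_, ?_⟩ <;>
    · show Matrix.fromBlocks π 0 0 π *ᵥ _ = _
      simp only [eV, fV] <;> rw [Matrix.mulVec_single_one] <;> funext x <;>
        rcases x with x | x <;> simp [hcol, e1, e2, Pi.single_apply]
  -- swaps transport parameters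
  have hmove : ∀ (k : Matrix.symplecticGroup (Fin m) F) (r s : Fin m ⊕ Fin m),
      k • (Pi.single r 1 : Fin m ⊕ Fin m → F) = Pi.single s 1 →
      ∀ k' : Matrix.symplecticGroup (Fin m) F, (QuotientGroup.mk k' : Cfsg.PSp m F) = γ (QuotientGroup.mk k) →
      ∃ μ : F, μ ≠ 0 ∧ k' • (Pi.single r 1 : Fin m ⊕ Fin m → F) = μ • Pi.single s 1 ∧ ∀ c, a s c = μ ^ 2 * a r c := by
    intro k r s hk k' hk'
    have himg : ∀ c, (QuotientGroup.mk (tv (k' • (Pi.single r 1 : Fin m ⊕ Fin m → F)) (a r c)) : Cfsg.PSp m F) =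
        QuotientGroup.mk (tv (Pi.single s 1) (a s c)) := fun c => by
      have h := congrArg γ (mk_conj_tv k (Pi.single r 1) c)
      rwa [map_mul, map_mul, map_inv, ha, ← hk', mk_conj_tv, hk, ha] at h
    have hne : k' • (Pi.single r 1 : Fin m ⊕ Fin m → F) ≠ 0 := fun e =>
      (Pi.single_ne_zero_iff (i := r) (M := fun _ : Fin m ⊕ Fin m => F)).mpr one_ne_zero (by
        rw [← inv_smul_smul k' (Pi.single r 1 : Fin m ⊕ Fin m → F), e]; exact smul_zero _)
    obtain ⟨μ, hμ, -⟩ := mk_tv_eq hne ((Pi.single_ne_zero_iff (i := s) (M := fun _ : Fin m ⊕ Fin m => F)).mpr one_ne_zero) (hane r) (himg 1)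
    refine ⟨μ, fun e => hne (by rw [hμ, e, zero_smul]), hμ, fun c => ?_⟩
    have := himg c
    rw [hμ, tv_smul_vec] at this
    exact (mk_tv_injective (Pi.single_ne_zero_iff.mpr one_ne_zero) this).symm
  have hν : ∀ i : Fin m, ∃ ν : F, ν ≠ 0 ∧ a (Sum.inr i) 1 = ν ^ 2 * a (Sum.inr 0) 1 := by
    intro i
    obtain ⟨k, -, hk, -⟩ := hswap 0 i
    obtain ⟨k', hk'⟩ := QuotientGroup.mk_surjective (γ (QuotientGroup.mk k))
    obtain ⟨μ, hμ0, -, hμ⟩ := hmove k (Sum.inr 0) (Sum.inr i) hk k' hk'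
    exact ⟨μ, hμ0, hμ 1⟩
  choose ν hν0 hν using hν
  -- diagonal normalisation
  let μ : Fˣ := Units.mk0 _ (hane (Sum.inr (0 : Fin m)))
  obtain ⟨D, hD, hDval⟩ := exists_diag_similitude (fun i => (μ : F) * ν i) (fun i => (ν i)⁻¹) μ
    (fun i => by rw [mul_assoc, mul_inv_cancel₀ (hν0 i), mul_one])
  set γ1 := spAut D 1 * γ with hγ1
  set d : Fin m ⊕ Fin m → F := Sum.elim (fun i => (μ : F) * ν i) (fun i => (ν i)⁻¹) with hd
  have hDsingle : ∀ k, ((D : GL (Fin m ⊕ Fin m) F) : Matrix (Fin m ⊕ Fin m) (Fin m ⊕ Fin m) F) *ᵥ Pi.single k 1 =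
      d k • Pi.single k 1 := fun k => by
    rw [hDval, Matrix.mulVec_single_one]
    funext x; rcases eq_or_ne x k with rfl | hx <;> simp [*, hd]
  set b : Fin m ⊕ Fin m → F → F := fun k c => d k ^ 2 * (a k c * ((μ⁻¹ : Fˣ) : F)) with hb
  have hb' : ∀ k c, γ1 (QuotientGroup.mk (tv (Pi.single k 1) c)) = QuotientGroup.mk (tv (Pi.single k 1) (b k c)) := by
    intro k c
    rw [hγ1, MulAut.mul_apply, ha, spAut_tv D 1 μ hD, map_single_one, hDsingle, tv_smul_vec]
    rfl
  have hb1 : ∀ i, b (Sum.inr i) 1 = 1 := fun i => by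
    simp only [hb, hd, Sum.elim_inr, hν i, μ, Units.val_inv_eq_inv_val, Units.val_mk0]
    have := hν0 i
    have := hane (Sum.inr (0 : Fin m))
    field_simp
  have hσ : ∀ i : Fin m, ∃ σ : RingAut F, (∀ c, b (Sum.inr i) c = σ c) ∧ ∀ c, b (Sum.inl i) c = σ c := fun i =>
    pair_ringEquiv γ1 (by simp [form_single_inr]) (hb' (Sum.inr i)) (hb' (Sum.inl i)) (hb1 i)
  choose σs hσr hσl using hσ
  have hperm1 : ∀ v : Fin m ⊕ Fin m → F, v ≠ 0 → ∃ w, w ≠ 0 ∧ (xg v).map γ1.toMonoidHom = xg w := by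
    intro v hv
    obtain ⟨w, hw, e⟩ := hperm v hv
    refine ⟨((D : GL (Fin m ⊕ Fin m) F) : Matrix (Fin m ⊕ Fin m) (Fin m ⊕ Fin m) F) *ᵥ w, fun e0 => hw ?_, ?_⟩
    · have := congrArg (((D : GL (Fin m ⊕ Fin m) F)⁻¹ : GL (Fin m ⊕ Fin m) F) : Matrix (Fin m ⊕ Fin m) (Fin m ⊕ Fin m) F).mulVec e0
      rwa [Matrix.mulVec_mulVec, ← Units.val_mul, inv_mul_cancel, Units.val_one, Matrix.one_mulVec, Matrix.mulVec_zero] at this
    · rw [hγ1, show (spAut D 1 * γ).toMonoidHom = (spAut D 1).toMonoidHom.comp γ.toMonoidHom from rfl,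
        ← Subgroup.map_map, e, map_spAut_xg]
      rfl
  -- signs of swaps
  have hsign : ∀ (i j : Fin m) (k : Matrix.symplecticGroup (Fin m) F), k • (eV i : Fin m ⊕ Fin m → F) = eV j →
      ∀ k' : Matrix.symplecticGroup (Fin m) F, (QuotientGroup.mk k' : Cfsg.PSp m F) = γ1 (QuotientGroup.mk k) →
      ∃ l : F, l ^ 2 = 1 ∧ k' • (eV i : Fin m ⊕ Fin m → F) = l • eV j ∧ σs j = σs i := by
    intro i j k hk k' hk'
    have himg : ∀ c, (QuotientGroup.mk (tv (k' • (eV i : Fin m ⊕ Fin m → F)) (σs i c)) : Cfsg.PSp m F) =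
        QuotientGroup.mk (tv (eV j) (σs j c)) := fun c => by
      have h := congrArg γ1 (mk_conj_tv k (eV i) c)
      have e1 : γ1 (QuotientGroup.mk (tv (eV i) c)) = QuotientGroup.mk (tv (eV i) (σs i c)) := by
        rw [← hσl]; exact hb' _ _
      have e2 : γ1 (QuotientGroup.mk (tv (eV j) c)) = QuotientGroup.mk (tv (eV j) (σs j c)) := by
        rw [← hσl]; exact hb' _ _
      rwa [map_mul, map_mul, map_inv, e1, ← hk', mk_conj_tv, hk, e2] at h
    have hne : k' • (eV i : Fin m ⊕ Fin m → F) ≠ 0 := fun e =>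
      eV_ne_zero (F := F) i (by rw [← inv_smul_smul k' (eV i : Fin m ⊕ Fin m → F), e]; exact smul_zero _)
    obtain ⟨l, hl, hl2⟩ := mk_tv_eq hne (eV_ne_zero j) (by simp) (himg 1)
    rw [map_one, map_one, mul_one] at hl2
    refine ⟨l, hl2, hl, RingEquiv.ext fun c => ?_⟩
    have := himg c
    rw [hl, tv_smul_vec, hl2, one_mul] at this
    exact (mk_tv_injective (eV_ne_zero j) this).symm
  set σ := σs 0 with hσdef
  have hsame : ∀ i, σs i = σ := fun i => by
    obtain ⟨k, hk, -, -⟩ := hswap 0 i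
    obtain ⟨k', hk'⟩ := QuotientGroup.mk_surjective (γ1 (QuotientGroup.mk k))
    obtain ⟨l, -, -, e⟩ := hsign 0 i k hk k' hk'
    exact e
  -- remove the field automorphism
  set γ2 := spAut (1 : ↥(Cfsg.GSp m F)) σ⁻¹ * γ1 with hγ2
  have hone : ∀ u v : Fin m ⊕ Fin m → F,
      form ((((1 : ↥(Cfsg.GSp m F)) : GL (Fin m ⊕ Fin m) F) : Matrix (Fin m ⊕ Fin m) (Fin m ⊕ Fin m) F) *ᵥ u)
        ((((1 : ↥(Cfsg.GSp m F)) : GL (Fin m ⊕ Fin m) F) : Matrix (Fin m ⊕ Fin m) (Fin m ⊕ Fin m) F) *ᵥ v) =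
        ((1 : Fˣ) : F) * form u v := fun u v => by simp
  have hfix2 : ∀ k c, γ2 (QuotientGroup.mk (tv (Pi.single k 1) c)) = QuotientGroup.mk (tv (Pi.single k 1) c) := by
    intro k c
    have hbk : b k c = σ c := by
      rcases k with i | i
      · rw [hσl, hsame]
      · rw [hσr, hsame]
    rw [hγ2, MulAut.mul_apply, hb', hbk, spAut_tv 1 σ⁻¹ 1 hone, map_single_one]
    have h1 : (σ⁻¹ : RingAut F) (σ c) = c := σ.symm_apply_apply c
    rw [h1, inv_one, Units.val_one, mul_one, OneMemClass.coe_one, Units.val_one, Matrix.one_mulVec]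
  have hperm2 : ∀ v : Fin m ⊕ Fin m → F, v ≠ 0 → ∃ w, w ≠ 0 ∧ (xg v).map γ2.toMonoidHom = xg w := by
    intro v hv
    obtain ⟨w, hw, e⟩ := hperm1 v hv
    refine ⟨fun i => (σ⁻¹ : RingAut F) (w i), fun e0 => hw (funext fun i => ?_), ?_⟩
    · exact (σ⁻¹ : RingAut F).injective ((congrFun e0 i).trans (map_zero _).symm)
    · rw [hγ2, show (spAut (1 : ↥(Cfsg.GSp m F)) σ⁻¹ * γ1).toMonoidHom = (spAut (1 : ↥(Cfsg.GSp m F)) σ⁻¹).toMonoidHom.comp γ1.toMonoidHom from rfl,
        ← Subgroup.map_map, e, map_spAut_xg, OneMemClass.coe_one, Units.val_one, Matrix.one_mulVec]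
  -- links
  have hlink : ∀ i j : Fin m, i ≠ j → ∃ t : F, t ^ 2 = 1 ∧
      (xg (eV i + eV j : Fin m ⊕ Fin m → F)).map γ2.toMonoidHom = xg (eV i + t • eV j) := by
    intro i j hij
    have hv0 : (eV i + eV j : Fin m ⊕ Fin m → F) ≠ 0 := fun e => by
      simpa [eV, hij] using congrFun e (Sum.inl i)
    obtain ⟨w, hw, e⟩ := hperm2 _ hv0
    have horth : ∀ k, form (Pi.single k 1) w = 0 ↔ form (Pi.single k 1) (eV i + eV j : Fin m ⊕ Fin m → F) = 0 := by
      intro k
      have hk0 : (Pi.single k 1 : Fin m ⊕ Fin m → F) ≠ 0 := Pi.single_ne_zero_iff.mpr one_ne_zero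
      rw [← commute_iff hk0 hw, ← commute_iff hk0 hv0, ← e]
      constructor
      · intro h x hx y hy
        refine γ2.injective ?_
        rw [map_mul, map_mul]
        obtain ⟨c, rfl⟩ := mem_xg.mp hx
        exact h _ (by rw [hfix2]; exact mk_tv_mem _ c) _ ⟨y, hy, rfl⟩
      · rintro h x hx _ ⟨y, hy, rfl⟩
        obtain ⟨c, rfl⟩ := mem_xg.mp hx
        show _ * γ2 y = γ2 y * _
        rw [← hfix2 k c, ← map_mul, ← map_mul, h _ (mk_tv_mem _ c) y hy]
    have hinr : ∀ x, w (Sum.inr x) = 0 := fun x => by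
      have := (horth (Sum.inl x)).mpr (by simp [form_single_inl, eV])
      simpa [form_single_inl] using this
    have hinl : ∀ x, x ≠ i → x ≠ j → w (Sum.inl x) = 0 := fun x h1 h2 => by
      have := (horth (Sum.inr x)).mpr (by simp [form_single_inr, eV, h1, h2])
      simpa [form_single_inr] using this
    have hwi : w (Sum.inl i) ≠ 0 := fun e0 => by
      have := (horth (Sum.inr i)).mp (by simp [form_single_inr, e0])
      simp [form_single_inr, eV, hij] at this
    set t := (w (Sum.inl i))⁻¹ * w (Sum.inl j) with ht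
    have hweq : (eV i + t • eV j : Fin m ⊕ Fin m → F) = (w (Sum.inl i))⁻¹ • w := by
      funext x
      rcases x with x | x
      · rcases eq_or_ne x i with rfl | hxi
        · simp [eV, hij, inv_mul_cancel₀ hwi]
        · rcases eq_or_ne x j with rfl | hxj
          · simp [eV, ht, hxi]
          · simp [eV, hxi, hxj, hinl x hxi hxj]
      · simp [eV, hinr x]
    have hxw : (xg (eV i + eV j : Fin m ⊕ Fin m → F)).map γ2.toMonoidHom = xg (eV i + t • eV j) := by
      rw [e, hweq, xg_smul (inv_ne_zero hwi)]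
    refine ⟨t, ?_, hxw⟩
    obtain ⟨k, hki, -, hkj⟩ := hswap i j
    obtain ⟨k', hk'⟩ := QuotientGroup.mk_surjective (γ2 (QuotientGroup.mk k))
    have himg : ∀ (u : Fin m ⊕ Fin m → F), (∃ r, u = Pi.single r 1) →
        (QuotientGroup.mk (tv (k' • u) 1) : Cfsg.PSp m F) = γ2 (QuotientGroup.mk (tv (k • u) 1)) := by
      rintro _ ⟨r, rfl⟩
      rw [← mk_conj_tv, hk', ← hfix2 r 1, ← map_inv, ← map_mul, ← map_mul, mk_conj_tv]
    have hli := himg (eV i) ⟨_, rfl⟩
    rw [hki] at hli; simp only [eV] at hli; rw [hfix2] at hli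
    have hne : k' • (eV i : Fin m ⊕ Fin m → F) ≠ 0 := fun e =>
      eV_ne_zero (F := F) i (by rw [← inv_smul_smul k' (eV i : Fin m ⊕ Fin m → F), e]; exact smul_zero _)
    obtain ⟨l, hl, hl2⟩ := mk_tv_eq (v := (eV j : Fin m ⊕ Fin m → F)) hne (eV_ne_zero j) one_ne_zero hli
    have hlj := himg (eV j) ⟨_, rfl⟩
    rw [hkj] at hlj; simp only [eV] at hlj; rw [hfix2] at hlj
    have hne' : k' • (eV j : Fin m ⊕ Fin m → F) ≠ 0 := fun e =>
      eV_ne_zero (F := F) j (by rw [← inv_smul_smul k' (eV j : Fin m ⊕ Fin m → F), e]; exact smul_zero _)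
    obtain ⟨l', hl', -⟩ := mk_tv_eq (v := (eV i : Fin m ⊕ Fin m → F)) hne' (eV_ne_zero i) one_ne_zero hlj
    set v' : Fin m ⊕ Fin m → F := eV i + t • eV j with hv'
    have hv'0 : v' ≠ 0 := fun e => by simpa [hv', eV, hij] using congrFun e (Sum.inl i)
    obtain ⟨c, hc⟩ : ∃ c, (QuotientGroup.mk (tv v' c) : Cfsg.PSp m F) = γ2 (QuotientGroup.mk (tv (eV i + eV j) 1)) :=
      mem_xg.mp (hxw ▸ ⟨_, mk_tv_mem _ 1, rfl⟩)
    have hc0 : c ≠ 0 := fun e0 => by
      rw [e0, tv_zero, QuotientGroup.mk_one, eq_comm, MulEquiv.map_eq_one_iff] at hc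
      exact mk_tv_ne_one hv0 one_ne_zero hc
    have hfixv : (QuotientGroup.mk (tv (k' • v') c) : Cfsg.PSp m F) = QuotientGroup.mk (tv v' c) := by
      rw [← mk_conj_tv, hk', hc, ← map_inv, ← map_mul, ← map_mul, mk_conj_tv, smul_add, hki, hkj, add_comm (eV j : Fin m ⊕ Fin m → F)]
    obtain ⟨κ, hκ, hκ2⟩ := mk_tv_eq (fun e => hv'0 (by rw [← inv_smul_smul k' v', e]; exact smul_zero _)) hv'0 hc0 hfixv
    rw [hv', smul_add, smul_comm k' t, hl, hl'] at hκ
    have := congrFun hκ (Sum.inl j)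
    simp [eV, hij.symm] at this
    rw [mul_eq_right₀ hc0] at hκ2
    have h2 := congrArg (· ^ 2) this
    simp only [mul_pow, hl2, hκ2, one_mul] at h2
    rw [mul_one] at hl2
    linear_combination -h2 + hl2
  -- signs
  choose t ht htmap using hlink
  let s : ℕ → F := fun n => n.rec 1 fun k r =>
    r * if h : k + 1 < m then t ⟨k, by omega⟩ ⟨k + 1, h⟩ (by simp [Fin.ext_iff]) else 1
  have hs : ∀ n, s n ^ 2 = 1 := by
    intro n
    induction n with
    | zero => exact one_pow 2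
    | succ k ih =>
      show (s k * _) ^ 2 = 1
      rw [mul_pow, ih, one_mul]
      split_ifs with h
      · exact ht _ _ _
      · exact one_pow 2
  obtain ⟨E, hE, hEval⟩ := exists_diag_similitude (fun i : Fin m => s i) (fun i => s i) 1
    (fun i => by rw [← pow_two, hs, Units.val_one])
  set γ3 := spAut E 1 * γ2 with hγ3
  have hfix3 : ∀ k c, γ3 (QuotientGroup.mk (tv (Pi.single k 1) c)) = QuotientGroup.mk (tv (Pi.single k 1) c) := by
    intro k c
    rw [hγ3, MulAut.mul_apply, hfix2, spAut_tv E 1 1 hE, map_single_one, hEval, Matrix.mulVec_single_one]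
    have : (Matrix.diagonal (Sum.elim (fun i : Fin m => s i) fun i : Fin m => s i)).col k =
        (Sum.elim (fun i : Fin m => s i) fun i : Fin m => s i) k • (Pi.single k 1 : Fin m ⊕ Fin m → F) := by
      funext x; rcases eq_or_ne x k with rfl | hx <;> simp [*]
    rw [this, tv_smul_vec, inv_one, Units.val_one, mul_one]
    rcases k with i | i <;> simp [hs]
  have hfixlink : ∀ (i j : Fin m), (j : ℕ) = i + 1 → ∀ c,
      γ3 (QuotientGroup.mk (tv (eV i + eV j) c)) = QuotientGroup.mk (tv (eV i + eV j) c) := by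
    intro i j hij
    have hne : i ≠ j := fun e => by subst e; omega
    have hgroup : (xg (eV i + eV j : Fin m ⊕ Fin m → F)).map γ3.toMonoidHom = xg (eV i + eV j) := by
      rw [hγ3, show (spAut E 1 * γ2).toMonoidHom = (spAut E 1).toMonoidHom.comp γ2.toMonoidHom from rfl,
        ← Subgroup.map_map, htmap i j hne, map_spAut_xg]
      have hsj : s j = s i * t i j hne := by
        obtain ⟨jv, hjv⟩ := j
        obtain rfl : jv = (i : ℕ) + 1 := hij
        show s i * _ = _
        rw [dif_pos]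
      have hvec : ((E : GL (Fin m ⊕ Fin m) F) : Matrix (Fin m ⊕ Fin m) (Fin m ⊕ Fin m) F) *ᵥ
          (fun x => (1 : RingAut F) ((eV i + t i j hne • eV j : Fin m ⊕ Fin m → F) x)) = s i • (eV i + eV j) := by
        rw [hEval]
        funext x
        rw [Matrix.mulVec_diagonal]
        rcases x with x | x
        · rcases eq_or_ne x i with rfl | hxi
          · simp [eV, hne]
          · rcases eq_or_ne x j with rfl | hxj
            · simp [eV, hxi, hsj]
              have := ht i x hne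
              linear_combination s i * this
            · simp [eV, hxi, hxj]
        · simp [eV]
      rw [hvec, xg_smul]
      intro e
      have := hs i
      simp [e] at this
    have hparam : ∀ c, ∃ d, γ3 (QuotientGroup.mk (tv (eV i + eV j) c)) = QuotientGroup.mk (tv (eV i + eV j) d) := by
      intro c
      obtain ⟨d, hd⟩ := mem_xg.mp (hgroup ▸ ⟨_, mk_tv_mem (eV i + eV j : Fin m ⊕ Fin m → F) c, rfl⟩ :
        γ3 (QuotientGroup.mk (tv (eV i + eV j) c)) ∈ xg (eV i + eV j : Fin m ⊕ Fin m → F))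
      exact ⟨d, hd.symm⟩
    choose d hd using hparam
    obtain ⟨ρ, h1, h2⟩ := pair_ringEquiv γ3 (u := fV i) (v := eV i + eV j) (fu := id) (fv := d)
      (by simp [form_fV_left, eV, hne]) (fun c => hfix3 _ c) hd rfl
    intro c
    rw [hd, h2, ← h1, id_eq]
  have hγ3one : γ3 = 1 := by
    let H : Subgroup (Matrix.symplecticGroup (Fin m) F) :=
      (γ3.toMonoidHom.eqLocus (MonoidHom.id _)).comap (QuotientGroup.mk' _)
    have hH : H = ⊤ := eq_top_of_generators hm H (fun i c => hfix3 _ c) (fun i c => hfix3 _ c) hfixlink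
    exact aut_ext fun x => (hH.ge (Subgroup.mem_top x) : _)
  have hγ : γ = (spAut D 1)⁻¹ * ((spAut (1 : ↥(Cfsg.GSp m F)) σ⁻¹)⁻¹ * (spAut E 1)⁻¹) := by
    rw [hγ3, hγ2, hγ1] at hγ3one
    have e := eq_inv_mul_iff_mul_eq.mpr (eq_inv_mul_iff_mul_eq.mpr hγ3one)
    have e' := eq_inv_mul_iff_mul_eq.mpr e
    rw [mul_one] at e'
    exact e'
  have hinv : ∀ (g : ↥(Cfsg.GSp m F)) (τ : RingAut F), (spAut g τ)⁻¹ = spAut (gspMap τ⁻¹ g⁻¹) τ⁻¹ := fun g τ =>
    inv_eq_of_mul_eq_one_left (spAut_inv_mul g τ)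
  rw [hγ, hinv, hinv, hinv, spAut_mul, spAut_mul]
  exact ⟨_, _, rfl⟩

/-- An automorphism permuting transvection groups is semilinear. -/
theorem exists_semi_of_permutes (hm : 2 ≤ m) (α : MulAut (Cfsg.PSp m F))
    (hperm : ∀ v : Fin m ⊕ Fin m → F, v ≠ 0 → ∃ w, w ≠ 0 ∧ (xg v).map α.toMonoidHom = xg w) :
    ∃ (g : ↥(Cfsg.GSp m F)) (σ : RingAut F), α = spAut g σ := by
  classical
  have hne : ∀ k : Fin m ⊕ Fin m, (Pi.single k 1 : Fin m ⊕ Fin m → F) ≠ 0 := fun k =>
    Pi.single_ne_zero_iff.mpr one_ne_zero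
  choose w hw hmap using fun k => hperm _ (hne k)
  have horth : ∀ k l, form (w k) (w l) = 0 ↔ form (Pi.single k 1 : Fin m ⊕ Fin m → F) (Pi.single l 1) = 0 := by
    intro k l
    rw [← commute_iff (hw k) (hw l), ← commute_iff (hne k) (hne l), ← hmap k, ← hmap l]
    constructor
    · intro h x hx y hy
      refine α.injective ?_
      rw [map_mul, map_mul]
      exact h _ ⟨x, hx, rfl⟩ _ ⟨y, hy, rfl⟩
    · rintro h _ ⟨x, hx, rfl⟩ _ ⟨y, hy, rfl⟩
      show α x * α y = α y * α x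
      rw [← map_mul, ← map_mul, h x hx y hy]
  have hpair : ∀ i, form (w (Sum.inl i)) (w (Sum.inr i)) ≠ 0 := fun i e => by
    have := (horth _ _).mp e
    simp [form_single_inl] at this
  let cs : Fin m ⊕ Fin m → F := Sum.elim (fun _ => 1) fun i => -(form (w (Sum.inl i)) (w (Sum.inr i)))⁻¹
  have hcs : ∀ k, cs k ≠ 0 := by
    rintro (i | i)
    · exact one_ne_zero
    · exact neg_ne_zero.mpr (inv_ne_zero (hpair i))
  let P : Matrix (Fin m ⊕ Fin m) (Fin m ⊕ Fin m) F := Matrix.of fun r k => cs k * w k r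
  have hcol : ∀ k, P *ᵥ Pi.single k 1 = cs k • w k := fun k => by
    rw [Matrix.mulVec_single_one]; rfl
  have hP : P ∈ Matrix.symplecticGroup (Fin m) F := by
    rw [SymplecticGroup.mem_iff']
    ext k l
    have h1 : (Pᵀ * Matrix.J (Fin m) F * P) k l = form (P *ᵥ Pi.single k 1) (P *ᵥ Pi.single l 1) := by
      rw [form, Matrix.mulVec_mulVec, Matrix.dotProduct_mulVec, Matrix.vecMul_mulVec, Matrix.mul_assoc]
      simp [Matrix.single_one_vecMul, Matrix.mulVec_single_one, Matrix.mul_apply, dotProduct_single]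
    have h2 : Matrix.J (Fin m) F k l = form (Pi.single k 1) (Pi.single l 1) := by simp [form]
    rw [h1, h2, hcol, hcol, form_smul_left, form_smul_right]
    by_cases h0 : form (Pi.single k 1 : Fin m ⊕ Fin m → F) (Pi.single l 1) = 0
    · rw [h0, (horth k l).mpr h0, mul_zero, mul_zero]
    rcases k with i | i <;> rcases l with j | j
    · simp [form_single_inl] at h0
    · rcases eq_or_ne i j with rfl | hij
      · simp [cs, form_single_inl, hpair i]
      · simp [form_single_inl, hij] at h0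
    · rcases eq_or_ne i j with rfl | hij
      · simp [cs, form_single_inr]
        rw [form_swap (w (Sum.inr i)) (w (Sum.inl i))]
        field_simp [hpair i]
      · simp [form_single_inr, hij] at h0
    · simp [form_single_inr] at h0
  set P' : Matrix.symplecticGroup (Fin m) F := ⟨P, hP⟩
  set γ := spAut (toGSp P')⁻¹ 1 * α with hγ
  have hPinv : ∀ v, (((toGSp P' : GL (Fin m ⊕ Fin m) F)⁻¹ : GL (Fin m ⊕ Fin m) F) : Matrix (Fin m ⊕ Fin m) (Fin m ⊕ Fin m) F) *ᵥ
      (P *ᵥ v) = v := fun v => by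
    rw [show P = ((toGSp P' : GL (Fin m ⊕ Fin m) F) : Matrix (Fin m ⊕ Fin m) (Fin m ⊕ Fin m) F) from rfl,
      Matrix.mulVec_mulVec, ← Units.val_mul, inv_mul_cancel, Units.val_one, Matrix.one_mulVec]
  have hmapγ : ∀ v, (xg v).map γ.toMonoidHom = ((xg v).map α.toMonoidHom).map (spAut (toGSp P')⁻¹ 1).toMonoidHom := by
    intro v
    rw [Subgroup.map_map]; rfl
  obtain ⟨g, σ, hg⟩ := exists_semi_of_fix hm γ (fun v hv => by
      obtain ⟨u, hu, e⟩ := hperm v hv
      refine ⟨(((toGSp P' : GL (Fin m ⊕ Fin m) F)⁻¹ : GL (Fin m ⊕ Fin m) F) : Matrix (Fin m ⊕ Fin m) (Fin m ⊕ Fin m) F) *ᵥ u,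
        fun e0 => hu ?_, ?_⟩
      · have := congrArg ((toGSp P' : GL (Fin m ⊕ Fin m) F) : Matrix (Fin m ⊕ Fin m) (Fin m ⊕ Fin m) F).mulVec e0
        rwa [Matrix.mulVec_mulVec, ← Units.val_mul, mul_inv_cancel, Units.val_one, Matrix.one_mulVec, Matrix.mulVec_zero] at this
      · rw [hmapγ, e, map_spAut_xg]; rfl)
    (fun k => by
      rw [hmapγ, hmap, map_spAut_xg, ← xg_smul (hcs k)]
      congr 1
      show cs k • ((((toGSp P' : GL (Fin m ⊕ Fin m) F)⁻¹ : GL (Fin m ⊕ Fin m) F) : Matrix (Fin m ⊕ Fin m) (Fin m ⊕ Fin m) F) *ᵥ w k) = _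
      rw [← Matrix.mulVec_smul, ← hcol, hPinv])
  refine ⟨toGSp P' * g, σ, ?_⟩
  have h1 : spAut (toGSp P') 1 * spAut (toGSp P')⁻¹ 1 = 1 := by
    rw [spAut_mul, gspMap_one_aut, mul_inv_cancel, one_mul, spAut_one]
  calc α = spAut (toGSp P') 1 * γ := by rw [hγ, ← mul_assoc, h1, one_mul]
    _ = _ := by rw [hg, spAut_mul, gspMap_one_aut, one_mul]

/-- For `q` odd or `m ≥ 3` every automorphism of `PSp_{2m}(q)` is semilinear. -/
theorem exists_semi (hm : 2 ≤ m) (h2 : (2 : F) ≠ 0 ∨ 3 ≤ m) (α : MulAut (Cfsg.PSp m F)) :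
    ∃ (g : ↥(Cfsg.GSp m F)) (σ : RingAut F), α = spAut g σ :=
  exists_semi_of_permutes hm α fun _ hv => exists_map_xg hm h2 α hv

end CfsgLib.AutPSp
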