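import Cfsg.Agent.AutPSp.GraphClassify
import Cfsg.Agent.AutPSL.Out
import Cfsg.Agent.AutPSL.ClassBasics

/-!
The structure of `Aut(PSp_{2m}(q))`: kernels, indices and orders.
-/

set_option autoImplicit false

open Matrix

namespace CfsgLib.AutPSp

open CfsgLib.Symp

variable {F : Type*} [Field F] {m : ℕ}

/-- The scalar similitudes. -/
def scalarG (m : ℕ) (F : Type*) [Field F] : Fˣ →* ↥(Cfsg.GSp m F) where
  toFun u := ⟨Matrix.GeneralLinearGroup.scalar (Fin m ⊕ Fin m) u, mem_GSp_iff.mpr ⟨u * u, fun x y => by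
    simp [Matrix.mulVec_smul, ← Matrix.smul_one_eq_diagonal, Matrix.smul_mulVec, form_smul_left, form_smul_right, mul_assoc]⟩⟩
  map_one' := Subtype.ext (map_one _)
  map_mul' a b := Subtype.ext (map_mul _ a b)

theorem coe_scalarG (u : Fˣ) :
    (((scalarG m F u : GL (Fin m ⊕ Fin m) F) : Matrix (Fin m ⊕ Fin m) (Fin m ⊕ Fin m) F)) = (u : F) • 1 := by
  simp [scalarG, Matrix.smul_one_eq_diagonal]

theorem scalarG_comm (u : Fˣ) (g : ↥(Cfsg.GSp m F)) : scalarG m F u * g = g * scalarG m F u := by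
  apply Subtype.ext; apply Units.ext
  rw [Subgroup.coe_mul, Subgroup.coe_mul, Units.val_mul, Units.val_mul, coe_scalarG]
  simp

theorem spAut_scalarG (u : Fˣ) : spAut (scalarG m F u) (1 : RingAut F) = 1 :=
  aut_ext fun s => by
    rw [spAut_mk, MulAut.one_apply]
    refine congrArg _ (Subtype.ext ?_)
    rw [coe_spFun]
    have hi : ((scalarG m F u : GL (Fin m ⊕ Fin m) F)⁻¹ : GL (Fin m ⊕ Fin m) F) = (scalarG m F u⁻¹ : GL (Fin m ⊕ Fin m) F) := by
      rw [map_inv, InvMemClass.coe_inv]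
    rw [hi, coe_scalarG, coe_scalarG]
    ext a b
    simp [smul_smul]

/-- The multiplier of a similitude. -/
theorem exists_mu_unique [NeZero m] (g : ↥(Cfsg.GSp m F)) :
    ∃! μ : Fˣ, ∀ u v, form (((g : GL (Fin m ⊕ Fin m) F) : Matrix (Fin m ⊕ Fin m) (Fin m ⊕ Fin m) F) *ᵥ u)
      (((g : GL (Fin m ⊕ Fin m) F) : Matrix (Fin m ⊕ Fin m) (Fin m ⊕ Fin m) F) *ᵥ v) = (μ : F) * form u v := by
  obtain ⟨μ, hμ⟩ := mem_GSp_iff.mp g.2
  refine ⟨μ, hμ, fun ν hν => Units.ext ?_⟩
  have := (hν (fV 0) (eV 0)).symm.trans (hμ (fV 0) (eV 0))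
  simpa [form_fV_left, eV] using this

/-- The multiplier homomorphism. -/
noncomputable def muHom (m : ℕ) (F : Type*) [Field F] [NeZero m] : ↥(Cfsg.GSp m F) →* Fˣ where
  toFun g := (exists_mu_unique g).choose
  map_one' := ((exists_mu_unique (1 : ↥(Cfsg.GSp m F))).choose_spec.2 1 fun u v => by simp).symm
  map_mul' g h := ((exists_mu_unique (g * h)).choose_spec.2 _ fun u v => by
    rw [Subgroup.coe_mul, Units.val_mul, ← Matrix.mulVec_mulVec, ← Matrix.mulVec_mulVec,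
      (exists_mu_unique g).choose_spec.1, (exists_mu_unique h).choose_spec.1, Units.val_mul, mul_assoc]).symm

theorem muHom_spec [NeZero m] (g : ↥(Cfsg.GSp m F)) (u v : Fin m ⊕ Fin m → F) :
    form (((g : GL (Fin m ⊕ Fin m) F) : Matrix (Fin m ⊕ Fin m) (Fin m ⊕ Fin m) F) *ᵥ u)
      (((g : GL (Fin m ⊕ Fin m) F) : Matrix (Fin m ⊕ Fin m) (Fin m ⊕ Fin m) F) *ᵥ v) = (muHom m F g : F) * form u v :=
  (exists_mu_unique g).choose_spec.1 u v

theorem muHom_eq [NeZero m] {g : ↥(Cfsg.GSp m F)} {μ : Fˣ}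
    (h : ∀ u v, form (((g : GL (Fin m ⊕ Fin m) F) : Matrix (Fin m ⊕ Fin m) (Fin m ⊕ Fin m) F) *ᵥ u)
      (((g : GL (Fin m ⊕ Fin m) F) : Matrix (Fin m ⊕ Fin m) (Fin m ⊕ Fin m) F) *ᵥ v) = (μ : F) * form u v) :
    muHom m F g = μ :=
  ((exists_mu_unique g).choose_spec.2 μ h).symm

theorem muHom_toGSp [NeZero m] (s : Matrix.symplecticGroup (Fin m) F) : muHom m F (toGSp s) = 1 :=
  muHom_eq fun u v => by
    rw [coe_toGSp, Units.val_one, one_mul]
    exact mem_iff_form.mp s.2 u v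

theorem muHom_scalarG [NeZero m] (u : Fˣ) : muHom m F (scalarG m F u) = u ^ 2 :=
  muHom_eq fun x y => by
    rw [coe_scalarG, Matrix.smul_mulVec, Matrix.smul_mulVec, Matrix.one_mulVec, Matrix.one_mulVec, form_smul_left,
      form_smul_right, Units.val_pow_eq_pow_val, pow_two, mul_assoc]

theorem muHom_surjective [NeZero m] : Function.Surjective (muHom m F) := fun μ => by
  obtain ⟨g, hg, -⟩ := exists_diag_similitude (fun _ : Fin m => (μ : F)) (fun _ => 1) μ fun _ => mul_one _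
  exact ⟨g, muHom_eq hg⟩

theorem muHom_gspMap [NeZero m] (σ : RingAut F) (g : ↥(Cfsg.GSp m F)) :
    muHom m F (gspMap σ g) = Units.map (σ : F →* F) (muHom m F g) :=
  muHom_eq fun u v => by
    have h := congrArg σ (muHom_spec g (fun i => σ.symm (u i)) fun i => σ.symm (v i))
    rw [map_mul, map_form σ, map_form σ] at h
    simp only [RingEquiv.apply_symm_apply] at h
    rw [coe_gspMap, coe_glMap, mulVec_map_eq, mulVec_map_eq]
    exact h

theorem exists_eq_toGSp [NeZero m] {g : ↥(Cfsg.GSp m F)} (h : muHom m F g = 1) :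
    ∃ k : Matrix.symplecticGroup (Fin m) F, g = toGSp k :=
  ⟨⟨((g : GL (Fin m ⊕ Fin m) F) : Matrix (Fin m ⊕ Fin m) (Fin m ⊕ Fin m) F), mem_iff_form.mpr fun u v => by
    rw [muHom_spec, h, Units.val_one, one_mul]⟩, Subtype.ext (Units.ext rfl)⟩

section Finite

variable [Finite F]

/-- Uniqueness of the semilinear representation. -/
theorem spAut_eq_one [NeZero m] {g : ↥(Cfsg.GSp m F)} {σ : RingAut F} (h : spAut g σ = 1) :
    σ = 1 ∧ ∃ u : Fˣ, g = scalarG m F u := by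
  classical
  set M := ((g : GL (Fin m ⊕ Fin m) F) : Matrix (Fin m ⊕ Fin m) (Fin m ⊕ Fin m) F) with hM
  have hline : ∀ v : Fin m ⊕ Fin m → F, v ≠ 0 → ∃ c : F, M *ᵥ (fun i => σ (v i)) = c • v := by
    intro v hv
    have e := map_spAut_xg g σ v
    rw [h, show (1 : MulAut (Cfsg.PSp m F)).toMonoidHom = MonoidHom.id _ from rfl, Subgroup.map_id] at e
    refine span_of_xg_le (fun e0 => hv (funext fun i => ?_)) e.ge
    have h1 := congrArg (((g : GL (Fin m ⊕ Fin m) F)⁻¹ : GL (Fin m ⊕ Fin m) F) : Matrix (Fin m ⊕ Fin m) (Fin m ⊕ Fin m) F).mulVec e0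
    rw [hM, Matrix.mulVec_mulVec, ← Units.val_mul, inv_mul_cancel, Units.val_one, Matrix.one_mulVec, Matrix.mulVec_zero] at h1
    exact σ.injective ((congrFun h1 i).trans (map_zero σ).symm)
  have hne : ∀ k : Fin m ⊕ Fin m, (Pi.single k 1 : Fin m ⊕ Fin m → F) ≠ 0 := fun k =>
    Pi.single_ne_zero_iff.mpr one_ne_zero
  choose l hl using fun k => hline _ (hne k)
  simp only [map_single_one] at hl
  have hpair : ∀ a b : Fin m ⊕ Fin m, a ≠ b → ∀ x : F, l b * σ x = x * l a := by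
    intro a b hab x
    have hv : (Pi.single a 1 + x • Pi.single b 1 : Fin m ⊕ Fin m → F) ≠ 0 := fun e => by
      simpa [hab] using congrFun e a
    obtain ⟨c, hc⟩ := hline _ hv
    have e : (fun i => σ ((Pi.single a 1 + x • Pi.single b 1 : Fin m ⊕ Fin m → F) i)) =
        Pi.single a 1 + σ x • Pi.single b 1 := by
      funext i
      simp only [Pi.add_apply, Pi.smul_apply, smul_eq_mul, map_add, map_mul]
      have h1 := congrFun (map_single_one σ a) i
      have h2 := congrFun (map_single_one σ b) i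
      simp only at h1 h2
      rw [h1, h2]
    rw [e, Matrix.mulVec_add, Matrix.mulVec_smul, hl, hl] at hc
    have ea := congrFun hc a
    have eb := congrFun hc b
    simp [hab, hab.symm] at ea eb
    rw [ea]; linear_combination eb
  have hall : ∀ a b, l a = l b := by
    intro a b
    rcases eq_or_ne a b with rfl | hab
    · rfl
    · simpa using (hpair b a hab.symm 1)
  set k0 : Fin m ⊕ Fin m := Sum.inl 0
  have hMeq : M = l k0 • 1 := by
    ext i j
    have := congrFun (hl j) i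
    rw [Matrix.mulVec_single_one] at this
    rw [show M i j = _ from this, hall j k0]
    simp [Pi.single_apply, Matrix.one_apply, eq_comm]
  have hl0 : l k0 ≠ 0 := by
    intro e
    rw [e, zero_smul] at hMeq
    have := Matrix.GeneralLinearGroup.det_ne_zero (g : GL (Fin m ⊕ Fin m) F)
    rw [← hM, hMeq, Matrix.det_zero] at this
    exact this rfl
  refine ⟨RingEquiv.ext fun x => ?_, Units.mk0 _ hl0, Subtype.ext (Units.ext ?_)⟩
  · have := hpair (Sum.inl 0) (Sum.inr 0) (by simp) x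
    rw [hall (Sum.inr 0) k0] at this
    exact mul_left_cancel₀ hl0 (by rw [this, mul_comm x]; rfl)
  · rw [coe_scalarG, ← hM, hMeq]; rfl

theorem spAut_eq_spAut [NeZero m] {g h : ↥(Cfsg.GSp m F)} {σ τ : RingAut F} (e : spAut g σ = spAut h τ) :
    σ = τ ∧ ∃ u : Fˣ, h = g * scalarG m F u := by
  have e1 : spAut (gspMap σ⁻¹ (g⁻¹ * h)) (σ⁻¹ * τ) = 1 := by
    rw [← spAut_inv_mul g σ, map_mul]
    conv_rhs => rw [e, spAut_mul]
  obtain ⟨h1, u, hu⟩ := spAut_eq_one e1
  refine ⟨inv_mul_eq_one.mp h1, Units.map (σ : F →* F) u, ?_⟩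
  have h2 := congrArg (gspMap σ) hu
  rw [← gspMap_mul_aut, mul_inv_cancel, gspMap_one_aut] at h2
  rw [← inv_mul_eq_iff_eq_mul, h2]
  apply Subtype.ext; apply Units.ext
  rw [coe_gspMap, coe_scalarG]
  show ((scalarG m F u : GL (Fin m ⊕ Fin m) F) : Matrix (Fin m ⊕ Fin m) (Fin m ⊕ Fin m) F).map σ = _
  rw [coe_scalarG]
  ext a b
  rcases eq_or_ne a b with rfl | hab <;> simp [*]

theorem mem_ker_innDiag [NeZero m] {g : ↥(Cfsg.GSp m F)} :
    g ∈ (innDiagHom m F).ker ↔ ∃ u : Fˣ, g = scalarG m F u := by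
  constructor
  · exact fun h => (spAut_eq_one h).2
  · rintro ⟨u, rfl⟩; exact spAut_scalarG u

theorem ker_innDiag [NeZero m] : (innDiagHom m F).ker = (scalarG m F).range := by
  ext g
  rw [mem_ker_innDiag]
  exact ⟨fun ⟨u, h⟩ => ⟨u, h.symm⟩, fun ⟨u, h⟩ => ⟨u, h.symm⟩⟩

/-- The index of a subgroup containing the inner automorphisms. -/
theorem relIndex_inn_sup [NeZero m] (L : Subgroup ↥(Cfsg.GSp m F)) (U : Subgroup Fˣ) (hU : L.map (muHom m F) = U) :
    (Cfsg.Inn (Cfsg.PSp m F) ⊔ L.map (innDiagHom m F)).relIndex (Cfsg.inndiagPSp m F) = Nat.gcd 2 U.index := by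
  subst hU
  have hcomap : (Cfsg.Inn (Cfsg.PSp m F) ⊔ L.map (innDiagHom m F)).comap (innDiagHom m F) =
      (L.map (muHom m F) ⊔ (powMonoidHom 2 : Fˣ →* Fˣ).range).comap (muHom m F) := by
    ext g
    constructor
    · intro hg
      obtain ⟨a, ⟨x, rfl⟩, b, ⟨l, hl, rfl⟩, e⟩ := Subgroup.mem_sup_of_normal_left.mp (Subgroup.mem_comap.mp hg)
      obtain ⟨k, rfl⟩ := QuotientGroup.mk_surjective x
      rw [← spAut_toGSp, ← innDiagHom_apply, ← map_mul] at e
      have h1 : (toGSp k * l)⁻¹ * g ∈ (innDiagHom m F).ker := by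
        rw [MonoidHom.mem_ker, map_mul, map_inv, e, inv_mul_cancel]
      obtain ⟨u, hu⟩ := mem_ker_innDiag.mp h1
      rw [Subgroup.mem_comap, ← mul_inv_cancel_left (toGSp k * l) g, hu, map_mul, map_mul,
        muHom_toGSp, one_mul, muHom_scalarG]
      exact mul_mem (Subgroup.mem_sup_left ⟨l, hl, rfl⟩) (Subgroup.mem_sup_right ⟨u, rfl⟩)
    · intro hg
      obtain ⟨_, ⟨l, hl, rfl⟩, _, ⟨u, rfl⟩, e⟩ := Subgroup.mem_sup.mp (Subgroup.mem_comap.mp hg)
      obtain ⟨k, hk⟩ := exists_eq_toGSp (g := g * (l * scalarG m F u)⁻¹)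
        (by rw [map_mul, map_inv, map_mul, muHom_scalarG, ← e]; exact mul_inv_cancel _)
      have hg' : g = toGSp k * l * scalarG m F u := by
        rw [← hk, mul_assoc, inv_mul_cancel_right]
      rw [Subgroup.mem_comap, hg', map_mul, map_mul, innDiagHom_apply (scalarG m F u), spAut_scalarG, mul_one,
        innDiagHom_apply, spAut_toGSp]
      exact mul_mem (Subgroup.mem_sup_left ⟨_, rfl⟩) (Subgroup.mem_sup_right ⟨l, hl, rfl⟩)
  rw [inndiag_eq_range, ← Subgroup.index_comap, hcomap, Subgroup.index_comap_of_surjective _ muHom_surjective,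
    CfsgLib.AutPSL.index_sup_pow]

theorem relIndex_inn [NeZero m] :
    (Cfsg.Inn (Cfsg.PSp m F)).relIndex (Cfsg.inndiagPSp m F) = Nat.gcd 2 (Nat.card F - 1) := by
  have h := relIndex_inn_sup (m := m) (F := F) ⊥ ⊥ (Subgroup.map_bot _)
  rwa [Subgroup.map_bot, sup_bot_eq, Subgroup.index_bot, Nat.card_units] at h

/-- `PSp` has trivial centre. -/
theorem conj_injective [NeZero m] : Function.Injective (MulAut.conj : Cfsg.PSp m F →* MulAut (Cfsg.PSp m F)) := by
  rw [← MonoidHom.ker_eq_bot_iff, eq_bot_iff]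
  intro x hx
  obtain ⟨k, rfl⟩ := QuotientGroup.mk_surjective x
  rw [MonoidHom.mem_ker, ← spAut_toGSp] at hx
  obtain ⟨-, u, hu⟩ := spAut_eq_one hx
  refine Subgroup.mem_bot.mpr ((QuotientGroup.eq_one_iff _).mpr (Subgroup.mem_center_iff.mpr fun y => Subtype.ext ?_))
  have hk : (k : Matrix (Fin m ⊕ Fin m) (Fin m ⊕ Fin m) F) = (u : F) • 1 := by
    rw [← coe_toGSp, hu, coe_scalarG]
  rw [Submonoid.coe_mul, Submonoid.coe_mul, hk]; simp

theorem card_inndiag [NeZero m] :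
    Nat.card (Cfsg.inndiagPSp m F) = Nat.gcd 2 (Nat.card F - 1) * Nat.card (Cfsg.PSp m F) := by
  have h1 : Nat.card (Cfsg.Inn (Cfsg.PSp m F)) = Nat.card (Cfsg.PSp m F) :=
    (Nat.card_congr (MonoidHom.ofInjective conj_injective).toEquiv).symm
  rw [← Subgroup.relIndex_bot_left, ← Subgroup.relIndex_mul_relIndex _ _ _ bot_le inn_le_inndiag, relIndex_inn,
    Subgroup.relIndex_bot_left, h1, mul_comm]

/-- The semilinear automorphisms. -/
def semiGroup (m : ℕ) (F : Type*) [Field F] : Subgroup (MulAut (Cfsg.PSp m F)) where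
  carrier := {α | ∃ (g : ↥(Cfsg.GSp m F)) (σ : RingAut F), α = spAut g σ}
  one_mem' := ⟨1, 1, spAut_one.symm⟩
  mul_mem' := by rintro _ _ ⟨g, σ, rfl⟩ ⟨h, τ, rfl⟩; exact ⟨_, _, spAut_mul g h σ τ⟩
  inv_mem' := by
    rintro _ ⟨g, σ, rfl⟩
    exact ⟨gspMap σ⁻¹ g⁻¹, σ⁻¹, inv_eq_of_mul_eq_one_left (spAut_inv_mul g σ)⟩

omit [Finite F] in
theorem inndiag_le_semiGroup : Cfsg.inndiagPSp m F ≤ semiGroup m F := by
  rw [inndiag_eq_range]; rintro _ ⟨g, rfl⟩; exact ⟨g, 1, rfl⟩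

/-- The field part of a semilinear automorphism. -/
noncomputable def fieldPart (m : ℕ) (F : Type*) [Field F] [Finite F] [NeZero m] :
    ↥(semiGroup m F) →* RingAut F where
  toFun α := α.2.choose_spec.choose
  map_one' := ((spAut_eq_spAut ((spAut_one).trans (1 : ↥(semiGroup m F)).2.choose_spec.choose_spec)).1).symm
  map_mul' a b := ((spAut_eq_spAut ((spAut_mul _ _ _ _).symm.trans
    ((congrArg₂ (· * ·) a.2.choose_spec.choose_spec b.2.choose_spec.choose_spec).symm.trans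
      (a * b).2.choose_spec.choose_spec))).1).symm

theorem fieldPart_apply [NeZero m] {g : ↥(Cfsg.GSp m F)} {σ : RingAut F} {α : ↥(semiGroup m F)}
    (h : (α : MulAut (Cfsg.PSp m F)) = spAut g σ) : fieldPart m F α = σ :=
  ((spAut_eq_spAut (h.symm.trans α.2.choose_spec.choose_spec)).1).symm

theorem fieldPart_surjective [NeZero m] : Function.Surjective (fieldPart m F) := fun σ =>
  ⟨⟨spAut 1 σ, 1, σ, rfl⟩, fieldPart_apply rfl⟩

theorem ker_fieldPart [NeZero m] :
    (fieldPart m F).ker = (Cfsg.inndiagPSp m F).subgroupOf (semiGroup m F) := by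
  ext α
  rw [Subgroup.mem_subgroupOf, inndiag_eq_range]
  constructor
  · intro h
    obtain ⟨g, σ, e⟩ := α.2
    obtain rfl : σ = 1 := (fieldPart_apply e).symm.trans h
    exact ⟨g, e.symm⟩
  · rintro ⟨g, e⟩
    exact fieldPart_apply e.symm

theorem card_semiGroup [NeZero m] :
    Nat.card (semiGroup m F) = Nat.card (RingAut F) * (Nat.gcd 2 (Nat.card F - 1) * Nat.card (Cfsg.PSp m F)) := by
  rw [CfsgLib.AutPSL.card_eq_card_mul_ker _ (fieldPart_surjective (F := F) (m := m)), ker_fieldPart,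
    Nat.card_congr (Subgroup.subgroupOfEquivOfLe inndiag_le_semiGroup).toEquiv, card_inndiag]

theorem semiGroup_eq_top (hm : 2 ≤ m) (h2 : (2 : F) ≠ 0 ∨ 3 ≤ m) : semiGroup m F = ⊤ :=
  eq_top_iff.mpr fun α _ => exists_semi hm h2 α

theorem index_semiGroup_two [CharP F 2] : (semiGroup 2 F).index = 2 := by
  rw [Subgroup.index_eq_two_iff_exists_notMem_and']
  refine ⟨tau, ?_, fun b => ?_⟩
  · rintro ⟨g, σ, e⟩
    exact tau_mul_ne 1 g 1 σ (by rw [spAut_one, mul_one, e])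
  · obtain ⟨g, σ, rfl | rfl⟩ := exists_semi_or_tau b
    · exact Or.inr ⟨g, σ, rfl⟩
    · left
      rw [← mul_assoc, tau_sq, spAut_mul]
      exact ⟨_, _, rfl⟩

end Finite

end CfsgLib.AutPSp
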