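import Cfsg.Agent.AutPSp.RootGroup
import Cfsg.Agent.Classical.SymplecticSimple
import Cfsg.Agent.AutPSL.Unipotent
import Mathlib.GroupTheory.Sylow
import Mathlib.GroupTheory.GroupAction.Quotient

/-!
Automorphisms of `PSp_{2m}(q)` permute transvection groups, for `q` odd or `m ≥ 3`.
-/

set_option autoImplicit false

open Matrix

namespace CfsgLib.AutPSp

open CfsgLib.Symp

variable {F : Type*} [Field F] {m : ℕ}

/-- The standard vector `e_i`. -/
def eV (i : Fin m) : Fin m ⊕ Fin m → F := Pi.single (Sum.inl i) 1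

theorem eV_ne_zero (i : Fin m) : (eV i : Fin m ⊕ Fin m → F) ≠ 0 := Pi.single_ne_zero_iff.mpr one_ne_zero

/-- The unipotent radical of the Siegel parabolic. -/
def uniGroup (m : ℕ) (F : Type*) [Field F] : Subgroup (Matrix.symplecticGroup (Fin m) F) where
  carrier := {g | ∃ (S : Matrix (Fin m) (Fin m) F) (hS : Sᵀ = S), g = uni S hS}
  mul_mem' := by
    rintro _ _ ⟨S, hS, rfl⟩ ⟨T, hT, rfl⟩
    exact ⟨T + S, by simp [hS, hT], uni_mul hS hT⟩
  one_mem' := ⟨0, Matrix.transpose_zero, Subtype.ext (by simp [uni, Matrix.fromBlocks_one])⟩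
  inv_mem' := by
    rintro _ ⟨S, hS, rfl⟩
    refine ⟨-S, by simp [hS], ?_⟩
    rw [inv_eq_iff_mul_eq_one, uni_mul]
    exact Subtype.ext (by simp [uni, Matrix.fromBlocks_one])

theorem uni_mem (S : Matrix (Fin m) (Fin m) F) (hS : Sᵀ = S) : uni S hS ∈ uniGroup m F := ⟨S, hS, rfl⟩

/-- The Levi embedding of `SL_m`. -/
def leviHom (m : ℕ) (F : Type*) [Field F] :
    Matrix.SpecialLinearGroup (Fin m) F →* Matrix.symplecticGroup (Fin m) F where
  toFun t := levi (t : Matrix (Fin m) (Fin m) F)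
    ((t⁻¹ : Matrix.SpecialLinearGroup (Fin m) F) : Matrix (Fin m) (Fin m) F)ᵀ (by
      rw [← Matrix.transpose_mul, ← Matrix.SpecialLinearGroup.coe_mul, inv_mul_cancel,
        Matrix.SpecialLinearGroup.coe_one, Matrix.transpose_one])
  map_one' := Subtype.ext (by simp [levi, Matrix.fromBlocks_one])
  map_mul' s t := Subtype.ext (by
    rw [Submonoid.coe_mul]
    simp only [levi, Matrix.fromBlocks_multiply, _root_.mul_inv_rev, Matrix.SpecialLinearGroup.coe_mul,
      Matrix.transpose_mul, Matrix.mul_zero, Matrix.zero_mul, add_zero, zero_add])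

theorem uni_congr {S T : Matrix (Fin m) (Fin m) F} (h : S = T) (hS : Sᵀ = S) (hT : Tᵀ = T) :
    uni S hS = uni T hT := by
  subst h; rfl

theorem leviHom_conj_uni (t : Matrix.SpecialLinearGroup (Fin m) F) (S : Matrix (Fin m) (Fin m) F) (hS : Sᵀ = S) :
    leviHom m F t * uni S hS * (leviHom m F t)⁻¹ =
      uni ((t : Matrix (Fin m) (Fin m) F) * S * (t : Matrix (Fin m) (Fin m) F)ᵀ)
        (by simp [Matrix.mul_assoc, hS]) := by
  rw [mul_inv_eq_iff_eq_mul]
  apply Subtype.ext
  rw [Submonoid.coe_mul, Submonoid.coe_mul]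
  show Matrix.fromBlocks _ 0 0 _ * Matrix.fromBlocks 1 S 0 1 =
    Matrix.fromBlocks 1 _ 0 1 * Matrix.fromBlocks _ 0 0 _
  simp only [Matrix.fromBlocks_multiply, Matrix.mul_zero, Matrix.zero_mul, Matrix.one_mul, Matrix.mul_one, add_zero,
    zero_add]
  rw [Matrix.mul_assoc ((t : Matrix (Fin m) (Fin m) F) * S), ← Matrix.transpose_mul, ← Matrix.SpecialLinearGroup.coe_mul,
    inv_mul_cancel, Matrix.SpecialLinearGroup.coe_one, Matrix.transpose_one, Matrix.mul_one]

theorem uni_pow (S : Matrix (Fin m) (Fin m) F) (hS : Sᵀ = S) (k : ℕ) :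
    ((uni S hS ^ k : Matrix.symplecticGroup (Fin m) F) : Matrix (Fin m ⊕ Fin m) (Fin m ⊕ Fin m) F) =
      Matrix.fromBlocks 1 ((k : F) • S) 0 1 := by
  induction k with
  | zero => simp [Matrix.fromBlocks_one]
  | succ k ih =>
    rw [pow_succ, Submonoid.coe_mul, ih]
    simp [uni, Matrix.fromBlocks_multiply, add_smul, add_comm]

theorem upper_pow (A B D : Matrix (Fin m) (Fin m) F) (k : ℕ) :
    ∃ B' : Matrix (Fin m) (Fin m) F, Matrix.fromBlocks A B 0 D ^ k = Matrix.fromBlocks (A ^ k) B' 0 (D ^ k) := by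
  induction k with
  | zero => exact ⟨0, by simp [Matrix.fromBlocks_one]⟩
  | succ k ih =>
    obtain ⟨B', hB'⟩ := ih
    exact ⟨A ^ k * B + B' * D, by rw [pow_succ, hB', Matrix.fromBlocks_multiply]; simp [pow_succ]⟩

variable [Finite F]

omit [Finite F] in
theorem mk_injective_two [CharP F 2] {A B : Matrix.symplecticGroup (Fin m) F}
    (h : (QuotientGroup.mk A : Cfsg.PSp m F) = QuotientGroup.mk B) : A = B := by
  have hz : A⁻¹ * B ∈ Subgroup.center (Matrix.symplecticGroup (Fin m) F) := QuotientGroup.eq.mp h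
  refine inv_mul_eq_one.mp (Subtype.ext ?_)
  rcases mem_center_iff.mp hz with e | e
  · exact e
  · rw [e]; ext a b; simp [Matrix.one_apply, CharTwo.neg_eq]

/-- Products with conjugates never have order four. -/
def NoFour (x : Cfsg.PSp m F) : Prop :=
  ∀ g : Cfsg.PSp m F, (x * (g * x * g⁻¹)) ^ 4 = 1 → (x * (g * x * g⁻¹)) ^ 2 = 1

omit [Finite F] in
theorem noFour_tv [CharP F 2] (u : Fin m ⊕ Fin m → F) (a : F) :
    NoFour (QuotientGroup.mk (tv u a) : Cfsg.PSp m F) := by
  intro g h4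
  obtain ⟨k, rfl⟩ := QuotientGroup.mk_surjective g
  rw [← QuotientGroup.mk_inv, ← QuotientGroup.mk_mul, ← QuotientGroup.mk_mul, ← QuotientGroup.mk_mul, tv_conj] at h4 ⊢
  set v := k • u
  set M := tv u a * tv v a with hM
  rw [← QuotientGroup.mk_pow] at h4 ⊢
  have e4 : M ^ 4 = 1 := mk_injective_two (h4.trans (QuotientGroup.mk_one (Subgroup.center _)).symm)
  suffices e : M ^ 2 = 1 by rw [e]; rfl
  by_cases hform : form u v = 0
  · have hc : Commute (tv u a) (tv v a) := by
      show tv u a * tv v a = tv v a * tv u a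
      rw [← mul_inv_eq_iff_eq_mul, tv_conj, tv_smul_of_orth a (by rw [form_swap, hform, neg_zero])]
    rw [hM, hc.mul_pow, tv_pow, tv_pow, Nat.cast_two, CharTwo.two_eq_zero, zero_mul, tv_zero, tv_zero, one_mul]
  rcases eq_or_ne a 0 with rfl | ha
  · rw [hM, tv_zero, tv_zero, one_mul, one_pow]
  exfalso
  set κ := form u v with hκ
  have hvu : form v u = κ := by rw [form_swap, hκ, CharTwo.neg_eq]
  have hMu : M • u = (1 + a * a * κ * κ) • u + (a * κ) • v := by
    rw [hM, mul_smul, tv_smul v a u, tv_smul u a]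
    simp only [form_add_left, form_smul_left, form_self, hvu, ← hκ]
    funext i
    simp only [Pi.add_apply, Pi.smul_apply, smul_eq_mul]
    ring
  have hMv : M • v = v + (a * κ) • u := by
    rw [hM, mul_smul, tv_smul v a v, form_self, mul_zero, zero_smul, add_zero, tv_smul u a v, hvu]
  set τ := a * a * κ * κ with hτ
  have hquad : M • (M • u) = τ • (M • u) + u := by
    rw [hMu, smul_add, smul_comm M, smul_comm M (a * κ) v, hMu, hMv]
    have h2 : (2 : F) = 0 := CharTwo.two_eq_zero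
    funext i
    simp only [hτ, Pi.add_apply, Pi.smul_apply, smul_eq_mul]
    linear_combination (a * κ * v i + a * a * κ * κ * u i) * h2
  have hM2 : M ^ 4 • u = u := by
    have := congrArg (fun x : Matrix.symplecticGroup (Fin m) F => x • u) e4
    simpa using this
  have e1 : M ^ 4 • u = M • (M • (M • (M • u))) := by simp [pow_succ, mul_smul]
  rw [e1, hquad, smul_add, smul_comm M τ, hquad, smul_add, smul_comm M τ, smul_add M, smul_comm M τ, hquad] at hM2
  have h3 : (τ * τ) • (τ • (M • u) + u) = 0 := by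
    have h2 : (2 : F) = 0 := CharTwo.two_eq_zero
    funext i
    have := congrFun hM2 i
    simp only [Pi.add_apply, Pi.smul_apply, smul_eq_mul, Pi.zero_apply] at this ⊢
    linear_combination this - (τ * (M • u) i) * h2
  rw [← hquad, smul_eq_zero, mul_self_eq_zero, hτ] at h3
  rcases h3 with h3 | h3
  · simp [ha, hform] at h3
  · apply hform
    have hu0 : u = 0 := by
      rw [← inv_smul_smul M u, ← inv_smul_smul M (M • u), h3, smul_zero, smul_zero]
    rw [hκ, hu0, form_zero_left]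

omit [Finite F] in
theorem not_noFour_uni [CharP F 2] {a b c : Fin m} (hab : a ≠ b) (hbc : b ≠ c) (hac : a ≠ c) (x d : F) (hd : d ≠ 0)
    (hS : (Matrix.single a a x + Matrix.single a b d + Matrix.single b a d)ᵀ =
      Matrix.single a a x + Matrix.single a b d + Matrix.single b a d) :
    ¬ NoFour (QuotientGroup.mk (uni _ hS) : Cfsg.PSp m F) := by
  intro h
  set S := Matrix.single a a x + Matrix.single a b d + Matrix.single b a d with hSdef
  let π : Matrix (Fin m) (Fin m) F := (Equiv.swap a c).toPEquiv.toMatrix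
  have hπ : πᵀ * π = 1 := by
    rw [← PEquiv.toMatrix_symm, ← PEquiv.toMatrix_trans, ← Equiv.toPEquiv_symm, ← Equiv.toPEquiv_trans,
      Equiv.symm_trans_self, Equiv.toPEquiv_refl, PEquiv.toMatrix_refl]
  set T := Matrix.single c c x + Matrix.single c b d + Matrix.single b c d with hTdef
  have hT : π * S * πᵀ = T := by
    ext i j
    rw [Matrix.mul_assoc, PEquiv.toMatrix_toPEquiv_mul, ← PEquiv.toMatrix_symm, ← Equiv.toPEquiv_symm,
      Matrix.submatrix_apply, PEquiv.mul_toMatrix_toPEquiv, Matrix.submatrix_apply]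
    simp only [hSdef, hTdef, Matrix.add_apply, Matrix.single_apply, Equiv.symm_symm, id_eq]
    have e1 : ∀ k, (a = Equiv.swap a c k ↔ c = k) := fun k => by
      rw [eq_comm, Equiv.swap_apply_eq_iff, Equiv.swap_apply_left, eq_comm]
    have e2 : ∀ k, (b = Equiv.swap a c k ↔ b = k) := fun k => by
      conv_lhs => rw [← Equiv.swap_apply_of_ne_of_ne hab.symm hbc]
      exact (Equiv.injective _).eq_iff
    simp [e1, e2]
  let k : Matrix.symplecticGroup (Fin m) F :=
    ⟨Matrix.J (Fin m) F, SymplecticGroup.J_mem _ _⟩ * levi π π hπ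
  set X := uni S hS
  have hy : ((k * X * k⁻¹ : Matrix.symplecticGroup (Fin m) F) : Matrix (Fin m ⊕ Fin m) (Fin m ⊕ Fin m) F) =
      Matrix.fromBlocks 1 0 T 1 := by
    have hk : k * X = ⟨Matrix.fromBlocks 1 0 T 1, by
        rw [SymplecticGroup.fromBlocks_mem_iff]; simp [← hT, Matrix.mul_assoc, hS]⟩ * k := by
      apply Subtype.ext
      simp only [k, X, uni, levi, Submonoid.coe_mul, Matrix.J, Matrix.fromBlocks_multiply, Matrix.mul_zero,
        Matrix.zero_mul, Matrix.one_mul, Matrix.mul_one, add_zero, zero_add, Matrix.neg_mul]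
      have hT' : T * π = π * S := by rw [← hT, Matrix.mul_assoc, hπ, Matrix.mul_one]
      simp [hT', CharTwo.neg_eq, Matrix.fromBlocks_inj]
      rw [show -(π * S) = π * S by ext i j; simp [CharTwo.neg_eq]]
    rw [mul_inv_eq_iff_eq_mul.mpr hk]
  have hST : S * T = Matrix.single a c (d * d) := by
    simp [hSdef, hTdef, add_mul, mul_add, Matrix.single_mul_single_of_ne, hab, hbc, hac, hab.symm, hbc.symm, hac.symm]
  have hTS : T * S = Matrix.single c a (d * d) := by
    simp [hSdef, hTdef, add_mul, mul_add, Matrix.single_mul_single_of_ne, hab, hbc, hac, hab.symm, hbc.symm, hac.symm]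
  have hSTS : S * T * S = 0 := by
    rw [hST, hSdef]
    simp [mul_add, Matrix.single_mul_single_of_ne, hbc.symm, hac.symm]
  have hTST : T * S * T = 0 := by
    rw [hTS, hTdef]
    simp [mul_add, Matrix.single_mul_single_of_ne, hab, hac]
  set Mt := X * (k * X * k⁻¹)
  have hM : (Mt : Matrix (Fin m ⊕ Fin m) (Fin m ⊕ Fin m) F) = Matrix.fromBlocks (1 + S * T) S T 1 := by
    rw [Submonoid.coe_mul, hy]
    simp [X, uni, Matrix.fromBlocks_multiply]
  have hM2 : ((Mt ^ 2 : Matrix.symplecticGroup (Fin m) F) : Matrix (Fin m ⊕ Fin m) (Fin m ⊕ Fin m) F) =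
      Matrix.fromBlocks (1 + S * T) 0 0 (1 + T * S) := by
    rw [SubmonoidClass.coe_pow, hM, pow_two, Matrix.fromBlocks_multiply]
    have h2 : ∀ A : Matrix (Fin m) (Fin m) F, A + A = 0 := fun A => by ext i j; exact CharTwo.add_self_eq_zero _
    congr 1
    · simp [add_mul, mul_add, ← Matrix.mul_assoc, hSTS, h2]
      rw [add_assoc, h2, add_zero]
    · simp [add_mul, hSTS, h2]
    · simp [mul_add, ← Matrix.mul_assoc, hTST, h2]
    · rw [add_comm, Matrix.one_mul]
  have hne : ¬ Mt ^ 2 = 1 := by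
    intro e
    have := congrArg (fun z : Matrix.symplecticGroup (Fin m) F => (z : Matrix (Fin m ⊕ Fin m) (Fin m ⊕ Fin m) F)) e
    simp only [hM2, OneMemClass.coe_one, ← Matrix.fromBlocks_one, Matrix.fromBlocks_inj, hST] at this
    have h1 := congrFun (congrFun this.1 a) c
    simp [hac, hd] at h1
  have h4 : Mt ^ 4 = 1 := by
    apply Subtype.ext
    rw [show 4 = 2 + 2 from rfl, pow_add, Submonoid.coe_mul, hM2, OneMemClass.coe_one, ← Matrix.fromBlocks_one,
      Matrix.fromBlocks_multiply]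
    have h2 : ∀ A : Matrix (Fin m) (Fin m) F, A + A = 0 := fun A => by ext i j; exact CharTwo.add_self_eq_zero _
    congr 1
    · simp [add_mul, mul_add, ← Matrix.mul_assoc, hSTS, add_assoc, h2]
    · simp
    · simp
    · simp [add_mul, mul_add, ← Matrix.mul_assoc, hTST, add_assoc, h2]
  apply hne
  refine mk_injective_two ?_
  rw [QuotientGroup.mk_pow, QuotientGroup.mk_one]
  have := h (QuotientGroup.mk k)
  rw [← QuotientGroup.mk_inv, ← QuotientGroup.mk_mul, ← QuotientGroup.mk_mul, ← QuotientGroup.mk_mul,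
    ← QuotientGroup.mk_pow, ← QuotientGroup.mk_pow, h4, QuotientGroup.mk_one] at this
  rw [← QuotientGroup.mk_pow]
  exact this rfl

omit [Finite F] in
/-- Symmetric matrices fixed by all upper unitriangular congruences. -/
theorem sym_fixed (hm : 2 ≤ m) [NeZero m] {S : Matrix (Fin m) (Fin m) F} (hS : Sᵀ = S)
    (h : ∀ (i j : Fin m), i < j → Matrix.transvection i j 1 * S * (Matrix.transvection i j 1)ᵀ = S) :
    S = Matrix.single 0 0 (S 0 0) + Matrix.single 0 ⟨1, hm⟩ (S 0 ⟨1, hm⟩) + Matrix.single ⟨1, hm⟩ 0 (S 0 ⟨1, hm⟩) ∧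
      2 * S 0 ⟨1, hm⟩ = 0 := by
  have hsym : ∀ a b, S b a = S a b := fun a b => congrFun (congrFun hS a) b
  have hexp : ∀ (i j : Fin m), i < j → Matrix.single i j (1 : F) * S + S * Matrix.single j i 1 +
      Matrix.single i j (1 : F) * S * Matrix.single j i 1 = 0 := by
    intro i j hij
    have := h i j hij
    simp only [Matrix.transvection, Matrix.transpose_add, Matrix.transpose_one, Matrix.transpose_single, add_mul,
      mul_add, Matrix.one_mul, Matrix.mul_one] at this
    apply add_left_cancel (a := S)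
    rw [add_zero]
    conv_rhs => rw [← this]
    abel
  have key : ∀ (i j : Fin m), i < j → ∀ b, b ≠ i → S j b = 0 := by
    intro i j hij b hb
    have := congrFun (congrFun (hexp i j hij) i) b
    simpa [hb, hb.symm] using this
  have hii : ∀ (i j : Fin m), i < j → 2 * S i j + S j j = 0 := by
    intro i j hij
    have := congrFun (congrFun (hexp i j hij) i) i
    simp at this
    rw [hsym i j] at this
    linear_combination this
  let o : Fin m := ⟨1, hm⟩
  have h0o : (0 : Fin m) < o := by simp [o, Fin.lt_def]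
  have hbig : ∀ j b, 0 < j → b ≠ 0 → S j b = 0 := fun j b hj hb => key 0 j hj b hb
  have hfar : ∀ j, o < j → S j 0 = 0 := fun j hj => key o j hj 0 (ne_of_lt h0o)
  refine ⟨?_, ?_⟩
  · ext a b
    simp only [Matrix.add_apply, Matrix.single_apply]
    rcases eq_or_ne a 0 with rfl | ha <;> rcases eq_or_ne b 0 with rfl | hb
    · simp [Fin.ext_iff]
    · rcases eq_or_ne b o with rfl | hbo
      · simp [o, Fin.ext_iff]
      · have : o < b := by
          have h1 : (b : ℕ) ≠ 0 := fun e => hb (Fin.ext e)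
          have h2 : (b : ℕ) ≠ 1 := fun e => hbo (Fin.ext e)
          show 1 < (b : ℕ)
          omega
        simp [hsym b 0, hfar b this, hb.symm, hbo.symm, o, Fin.ext_iff]
    · rcases eq_or_ne a o with rfl | hao
      · simp [o, Fin.ext_iff, hsym 0 ⟨1, hm⟩]
      · have : o < a := by
          have h1 : (a : ℕ) ≠ 0 := fun e => ha (Fin.ext e)
          have h2 : (a : ℕ) ≠ 1 := fun e => hao (Fin.ext e)
          show 1 < (a : ℕ)
          omega
        simp [hfar a this, ha.symm, hao.symm, o, Fin.ext_iff]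
    · rw [hbig a b (Fin.pos_iff_ne_zero.mpr ha) hb]
      simp [ha.symm, hb.symm]
  · have := hii 0 o h0o
    rwa [hbig o o h0o (ne_of_gt h0o), add_zero] at this

omit [Finite F] in
/-- An element centralising the Siegel radical. -/
theorem exists_uni_of_comm (hm : 2 ≤ m) {p : ℕ} (hp : p.Prime) [CharP F p] {k : ℕ}
    {s : Matrix.symplecticGroup (Fin m) F} (hk : s ^ p ^ k = 1)
    (hs : ∀ (S : Matrix (Fin m) (Fin m) F) (hS : Sᵀ = S), s * uni S hS = uni S hS * s) :
    ∃ (B : Matrix (Fin m) (Fin m) F) (hB : Bᵀ = B), s = uni B hB := by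
  have : NeZero m := ⟨by omega⟩
  obtain ⟨A, B, C, D, hblk⟩ : ∃ A B C D, (s : Matrix (Fin m ⊕ Fin m) (Fin m ⊕ Fin m) F) = Matrix.fromBlocks A B C D :=
    ⟨_, _, _, _, (Matrix.fromBlocks_toBlocks _).symm⟩
  have heq : ∀ (S : Matrix (Fin m) (Fin m) F), Sᵀ = S → S * C = 0 ∧ A * S = S * D := by
    intro S hS
    have := congrArg (fun z : Matrix.symplecticGroup (Fin m) F => (z : Matrix (Fin m ⊕ Fin m) (Fin m ⊕ Fin m) F)) (hs S hS)
    simp only [Submonoid.coe_mul, hblk, uni, Matrix.fromBlocks_multiply, Matrix.fromBlocks_inj, Matrix.mul_one,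
      Matrix.one_mul, Matrix.mul_zero, Matrix.zero_mul, add_zero, zero_add] at this
    obtain ⟨h1, h2, -, -⟩ := this
    exact ⟨by simpa using h1.symm, by rw [add_comm B] at h2; exact add_right_cancel h2⟩
  have hC : C = 0 := by simpa using (heq 1 Matrix.transpose_one).1
  have hD : D = A := by simpa using (heq 1 Matrix.transpose_one).2.symm
  subst hC
  rw [hD] at hblk heq
  clear hD D
  obtain ⟨a, ha⟩ : ∃ a : F, A = a • 1 := by
    have hoff : ∀ i j, i ≠ j → A i j = 0 := fun i j hij => by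
      have := congrFun (congrFun (heq (Matrix.single j j 1) (by simp)).2 i) j
      simpa [hij, hij.symm] using this
    have hdiag : ∀ i j, A i i = A j j := fun i j => by
      rcases eq_or_ne i j with rfl | hij
      · rfl
      have := congrFun (congrFun (heq (Matrix.single i j 1 + Matrix.single j i 1) (by simp [add_comm])).2 i) j
      simpa [Matrix.mul_add, Matrix.add_mul, hij, hij.symm] using this
    refine ⟨A 0 0, Matrix.ext fun i j => ?_⟩
    rcases eq_or_ne i j with rfl | hij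
    · simp [hdiag i 0]
    · simp [hoff i j hij, hij]
  have hmem := s.2
  rw [hblk, SymplecticGroup.fromBlocks_mem_iff] at hmem
  obtain ⟨B', hB'⟩ := upper_pow A B A (p ^ k)
  have hpow := congrArg (fun z : Matrix.symplecticGroup (Fin m) F => (z : Matrix (Fin m ⊕ Fin m) (Fin m ⊕ Fin m) F)) hk
  simp only [SubmonoidClass.coe_pow, hblk, hB', OneMemClass.coe_one, ← Matrix.fromBlocks_one, Matrix.fromBlocks_inj] at hpow
  have h11 := congrFun (congrFun hpow.1 0) 0
  rw [ha, smul_pow, one_pow] at h11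
  have hap : a ^ p ^ k = 1 := by simpa using h11
  have hsq : a * a = 1 := by
    obtain ⟨-, -, h3⟩ := hmem
    have := congrFun (congrFun h3 0) 0
    simpa [ha] using this
  have ha1 : a = 1 := by
    rcases hp.eq_two_or_odd' with rfl | hodd
    · rcases mul_self_eq_one_iff.mp hsq with e | e
      · exact e
      · rw [e, CharTwo.neg_eq]
    · obtain ⟨j, hj⟩ := hodd.pow (n := k)
      rwa [hj, pow_succ, pow_mul, pow_two, hsq, one_pow, one_mul] at hap
  rw [ha1, one_smul] at ha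
  subst ha
  obtain ⟨h1, h2, -⟩ := hmem
  have hBs : Bᵀ = B := by
    first
    | simpa using h2
    | simpa using h2.symm
  exact ⟨B, hBs, Subtype.ext hblk⟩

theorem map_setOf {G : Type*} [Group G] (α : G ≃* G) (P : Subgroup G) (Q : G → Prop) (hQ : ∀ x, Q x → Q (α x))
    (hQ' : ∀ x, Q (α x) → Q x) :
    α '' {x | x ∈ P ∧ (∀ y ∈ P, x * y = y * x) ∧ Q x} =
      {x | x ∈ P.map α.toMonoidHom ∧ (∀ y ∈ P.map α.toMonoidHom, x * y = y * x) ∧ Q x} := by
  ext x
  constructor
  · rintro ⟨z, ⟨h1, h2, h3⟩, rfl⟩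
    refine ⟨⟨z, h1, rfl⟩, ?_, hQ z h3⟩
    rintro _ ⟨y, hy, rfl⟩
    show α z * α y = α y * α z
    rw [← map_mul, ← map_mul, h2 y hy]
  · rintro ⟨⟨z, h1, rfl⟩, h2, h3⟩
    refine ⟨z, ⟨h1, fun y hy => α.injective ?_, hQ' z h3⟩, rfl⟩
    rw [map_mul, map_mul]
    exact h2 _ ⟨y, hy, rfl⟩

omit [Finite F] in
theorem noFour_map (α : MulAut (Cfsg.PSp m F)) {x : Cfsg.PSp m F} (h : NoFour x) : NoFour (α x) := by
  intro g
  have := h (α⁻¹ g)
  intro h4
  have e : α x * (g * α x * g⁻¹) = α (x * (α⁻¹ g * x * (α⁻¹ g)⁻¹)) := by simp [map_mul]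
  rw [e, ← map_pow, MulEquiv.map_eq_one_iff] at h4
  rw [e, ← map_pow, this h4, map_one]

omit [Finite F] in
theorem stabilizer_index [Finite F] (hm : 2 ≤ m) [NeZero m] :
    (MulAction.stabilizer (Matrix.symplecticGroup (Fin m) F) (eV 0 : Fin m ⊕ Fin m → F)).index =
      Nat.card F ^ (m + m) - 1 := by
  classical
  rw [MulAction.index_stabilizer]
  have : MulAction.orbit (Matrix.symplecticGroup (Fin m) F) (eV 0 : Fin m ⊕ Fin m → F) = {v | v ≠ 0} := by
    ext v
    constructor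
    · rintro ⟨g, rfl⟩ e
      exact eV_ne_zero (F := F) (0 : Fin m) (by
        rw [← inv_smul_smul g (eV 0 : Fin m ⊕ Fin m → F)]
        show g⁻¹ • (g • (eV 0 : Fin m ⊕ Fin m → F)) = 0
        rw [show g • (eV 0 : Fin m ⊕ Fin m → F) = 0 from e]
        exact smul_zero _)
    · intro hv
      obtain ⟨g, hg⟩ := exists_smul_eq_of_ne_zero (eV_ne_zero (F := F) (0 : Fin m)) hv
      exact ⟨g, hg⟩
  rw [this, show ({v | v ≠ 0} : Set (Fin m ⊕ Fin m → F)) = Set.univ \ {0} by ext; simp,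
    Set.ncard_sdiff_singleton_of_mem (Set.mem_univ _), Set.ncard_univ, Nat.card_fun, Nat.card_sum, Nat.card_fin]

/-- A Sylow subgroup and the shape of its centre. -/
theorem exists_sylow_center (hm : 2 ≤ m) [NeZero m] (p : ℕ) [Fact p.Prime] [CharP F p] :
    ∃ P : Sylow p (Cfsg.PSp m F),
      (∀ x ∈ xg (eV 0 : Fin m ⊕ Fin m → F), x ∈ (P : Subgroup (Cfsg.PSp m F)) ∧ ∀ y ∈ (P : Subgroup (Cfsg.PSp m F)), x * y = y * x) ∧
      ∀ x ∈ (P : Subgroup (Cfsg.PSp m F)), (∀ y ∈ (P : Subgroup (Cfsg.PSp m F)), x * y = y * x) →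
        ∃ (B : Matrix (Fin m) (Fin m) F) (hB : Bᵀ = B), x = QuotientGroup.mk (uni B hB) ∧
          B = Matrix.single 0 0 (B 0 0) + Matrix.single 0 ⟨1, hm⟩ (B 0 ⟨1, hm⟩) +
            Matrix.single ⟨1, hm⟩ 0 (B 0 ⟨1, hm⟩) ∧ 2 * B 0 ⟨1, hm⟩ = 0 := by
  classical
  have hp : p.Prime := Fact.out
  set G := Matrix.symplecticGroup (Fin m) F
  set St : Subgroup G := MulAction.stabilizer G (eV 0 : Fin m ⊕ Fin m → F)
  let L : Subgroup G := (CfsgLib.AutPSL.unitriSL F m).map (leviHom m F)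
  have hUni : IsPGroup p (uniGroup m F) := by
    rintro ⟨_, S, hS, rfl⟩
    refine ⟨1, Subtype.ext (Subtype.ext ?_)⟩
    rw [pow_one, SubmonoidClass.coe_pow, uni_pow, CharP.cast_eq_zero, zero_smul, Matrix.fromBlocks_one]
    rfl
  have hL : IsPGroup p L := by
    obtain ⟨k, hk⟩ : ∃ k, Nat.card F = p ^ k := by
      letI := Fintype.ofFinite F
      obtain ⟨k, -, hk⟩ := FiniteField.card F p
      exact ⟨k, by rw [Nat.card_eq_fintype_card, hk]⟩
    refine IsPGroup.map (IsPGroup.of_card (n := k * ∑ j : Fin m, (j : ℕ)) ?_) _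
    rw [CfsgLib.AutPSL.card_unitriSL, hk, ← pow_mul]
  have hnorm : L ≤ Subgroup.normalizer (uniGroup m F : Set G) := by
    rintro _ ⟨t, -, rfl⟩
    rw [Subgroup.mem_normalizer_iff]
    intro x
    constructor
    · rintro ⟨S, hS, rfl⟩
      rw [leviHom_conj_uni]
      exact uni_mem _ _
    · rintro ⟨S, hS, e⟩
      have : x = leviHom m F t⁻¹ * uni S hS * (leviHom m F t⁻¹)⁻¹ := by rw [← e, map_inv]; group
      rw [this, leviHom_conj_uni]
      exact uni_mem _ _
  have hU : IsPGroup p (L ⊔ uniGroup m F : Subgroup G) := hL.to_sup_of_normal_right' hUni hnorm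
  have hUst : L ⊔ uniGroup m F ≤ St := by
    refine sup_le ?_ ?_
    · rintro _ ⟨t, ⟨ht1, ht2⟩, rfl⟩
      refine MulAction.mem_stabilizer_iff.mpr ?_
      show Matrix.fromBlocks (t : Matrix (Fin m) (Fin m) F) 0 0 _ *ᵥ (Pi.single (Sum.inl 0) 1) = _
      rw [Matrix.mulVec_single_one]
      funext i
      rcases i with i | i
      · rcases eq_or_ne i 0 with rfl | hi
        · simp [eV, ht1]
        · simp [eV, ht2 i 0 (Fin.pos_iff_ne_zero.mpr hi), hi]
      · simp [eV]
    · rintro _ ⟨S, hS, rfl⟩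
      refine MulAction.mem_stabilizer_iff.mpr ?_
      show Matrix.fromBlocks 1 S 0 1 *ᵥ (Pi.single (Sum.inl 0) 1) = _
      rw [Matrix.mulVec_single_one]
      funext i
      rcases i with i | i <;> simp [eV, Pi.single_apply, Matrix.one_apply]
  obtain ⟨Q, hQ⟩ := (hU.comap_of_injective St.subtype St.subtype_injective).exists_le_sylow
  let P0 : Subgroup G := (Q : Subgroup St).map St.subtype
  have hP0U : L ⊔ uniGroup m F ≤ P0 := fun x hx => ⟨⟨x, hUst hx⟩, hQ hx, rfl⟩
  have hP0st : P0 ≤ St := Subgroup.map_subtype_le _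
  have hP0p : IsPGroup p P0 := Q.isPGroup'.map _
  have hP0i : ¬ p ∣ P0.index := by
    rw [Subgroup.index_map_subtype]
    intro hd
    rcases hp.dvd_mul.mp hd with h | h
    · exact Q.not_dvd_index h
    · rw [stabilizer_index hm] at h
      have hq : p ∣ Nat.card F := by
        letI := Fintype.ofFinite F
        obtain ⟨k, -, hk⟩ := FiniteField.card F p
        rw [Nat.card_eq_fintype_card, hk]; exact dvd_pow_self p k.ne_zero
      have h1 : p ∣ Nat.card F ^ (m + m) := dvd_pow hq (by omega)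
      have hpos : 1 ≤ Nat.card F ^ (m + m) := Nat.one_le_pow _ _ Nat.card_pos
      have := Nat.dvd_sub h1 h
      rw [Nat.sub_sub_self hpos] at this
      exact hp.ne_one (Nat.dvd_one.mp this)
  let π := QuotientGroup.mk' (Subgroup.center G)
  let P : Sylow p (Cfsg.PSp m F) := (hP0p.map π).toSylow
    (fun hd => hP0i (hd.trans (Subgroup.index_map_dvd _ (QuotientGroup.mk'_surjective _))))
  have hpow : ∀ s ∈ P0, ∃ k, s ^ p ^ k = 1 := fun s hs => by
    obtain ⟨k, hk⟩ := hP0p ⟨s, hs⟩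
    exact ⟨k, congrArg Subtype.val hk⟩
  refine ⟨P, ?_, ?_⟩
  · intro x hx
    obtain ⟨c, rfl⟩ := mem_xg.mp hx
    refine ⟨⟨tv (eV 0) c, hP0U (Subgroup.mem_sup_right ⟨_, _, tv_single_eq_uni 0 c⟩), rfl⟩, ?_⟩
    rintro _ ⟨t, ht, rfl⟩
    show (QuotientGroup.mk _ : Cfsg.PSp m F) * QuotientGroup.mk t = QuotientGroup.mk t * QuotientGroup.mk _
    rw [← QuotientGroup.mk_mul, ← QuotientGroup.mk_mul]
    refine congrArg _ ((mul_inv_eq_iff_eq_mul.mp ?_).symm)
    rw [tv_conj, MulAction.mem_stabilizer_iff.mp (hP0st ht)]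
  rintro _ ⟨s, hs, rfl⟩ hc
  have hcomm : ∀ t ∈ P0, s * t = t * s := by
    intro t ht
    obtain ⟨k, hk⟩ := hpow t ht
    have h1 := hc _ ⟨t, ht, rfl⟩
    refine mul_inv_eq_iff_eq_mul.mp (eq_of_mk_eq hp (k := k) ?_ hk ?_)
    · rw [← MulAut.conj_apply, ← map_pow, hk, map_one]
    · show π (s * t * s⁻¹) = π t
      rw [map_mul, map_mul, map_inv, mul_inv_eq_iff_eq_mul]
      exact h1
  obtain ⟨k, hk⟩ := hpow s hs
  obtain ⟨B, hB, rfl⟩ := exists_uni_of_comm hm hp hk
    (fun S hS => hcomm _ (hP0U (Subgroup.mem_sup_right (uni_mem S hS))))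
  obtain ⟨hBeq, hd2⟩ := sym_fixed hm hB (fun i j hij => by
    have ht : Matrix.SpecialLinearGroup.transvection hij.ne (1 : F) ∈ CfsgLib.AutPSL.unitriSL F m := by
      constructor
      · intro a
        rw [CfsgLib.Linear.transvec_coe]
        simp [Matrix.transvection, Matrix.single_apply, hij.ne]
        intro h; subst h; exact hij.ne'
      · intro a b hba
        rw [CfsgLib.Linear.transvec_coe]
        simp [Matrix.transvection, ne_of_gt hba, Matrix.single_apply]
        intro h1 h2; subst h1 h2; exact absurd hij (lt_asymm hba)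
    have h1 := hcomm _ (hP0U (Subgroup.mem_sup_left ⟨_, ht, rfl⟩))
    have h2 := mul_inv_eq_iff_eq_mul.mpr h1.symm
    rw [leviHom_conj_uni, CfsgLib.Linear.transvec_coe] at h2
    have h3 := congrArg (fun z : G => (z : Matrix (Fin m ⊕ Fin m) (Fin m ⊕ Fin m) F)) h2
    exact (Matrix.fromBlocks_inj.mp h3).2.1)
  exact ⟨B, hB, rfl, hBeq, hd2⟩

/-- Transport to an automorphism fixing a given Sylow subgroup. -/
theorem exists_normalised (hm : 2 ≤ m) [NeZero m] {p : ℕ} [Fact p.Prime] (P : Sylow p (Cfsg.PSp m F))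
    (α : MulAut (Cfsg.PSp m F)) {v : Fin m ⊕ Fin m → F} (hv : v ≠ 0) :
    ∃ (β : MulAut (Cfsg.PSp m F)) (t : Matrix.symplecticGroup (Fin m) F),
      (P : Subgroup (Cfsg.PSp m F)).map β.toMonoidHom = P ∧
      (xg v).map α.toMonoidHom = ((xg (eV 0 : Fin m ⊕ Fin m → F)).map β.toMonoidHom).map
        (MulAut.conj (QuotientGroup.mk t : Cfsg.PSp m F)).toMonoidHom := by
  classical
  obtain ⟨g0, hg0⟩ := exists_smul_eq_of_ne_zero (eV_ne_zero (F := F) (0 : Fin m)) hv
  set β : MulAut (Cfsg.PSp m F) := α * MulAut.conj (QuotientGroup.mk g0 : Cfsg.PSp m F) with hβ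
  have hxv : xg v = (xg (eV 0 : Fin m ⊕ Fin m → F)).map (MulAut.conj (QuotientGroup.mk g0 : Cfsg.PSp m F)).toMonoidHom := by
    ext x
    constructor
    · intro hx
      obtain ⟨c, rfl⟩ := mem_xg.mp hx
      refine ⟨_, mk_tv_mem (eV 0) c, ?_⟩
      show (QuotientGroup.mk g0 : Cfsg.PSp m F) * QuotientGroup.mk _ * (QuotientGroup.mk g0)⁻¹ = _
      rw [← QuotientGroup.mk_inv, ← QuotientGroup.mk_mul, ← QuotientGroup.mk_mul, tv_conj, hg0]
    · rintro ⟨y, hy, rfl⟩
      obtain ⟨c, rfl⟩ := mem_xg.mp hy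
      refine mem_xg.mpr ⟨c, ?_⟩
      show _ = (QuotientGroup.mk g0 : Cfsg.PSp m F) * QuotientGroup.mk _ * (QuotientGroup.mk g0)⁻¹
      rw [← QuotientGroup.mk_inv, ← QuotientGroup.mk_mul, ← QuotientGroup.mk_mul, tv_conj, hg0]
  let P' : Sylow p (Cfsg.PSp m F) := (P.isPGroup'.map β.toMonoidHom).toSylow (by
    rw [Subgroup.index_map_of_bijective (f := β.toMonoidHom) β.bijective]
    exact P.not_dvd_index)
  obtain ⟨x, hx⟩ := MulAction.exists_smul_eq (Cfsg.PSp m F) P P'
  obtain ⟨t, rfl⟩ := QuotientGroup.mk_surjective x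
  set γ : MulAut (Cfsg.PSp m F) := MulAut.conj (QuotientGroup.mk t : Cfsg.PSp m F)
  have hP' : (P : Subgroup (Cfsg.PSp m F)).map β.toMonoidHom = (P : Subgroup (Cfsg.PSp m F)).map γ.toMonoidHom := by
    have h1 := congrArg Sylow.toSubgroup hx
    rw [Sylow.coe_subgroup_smul] at h1
    rw [show (P : Subgroup (Cfsg.PSp m F)).map β.toMonoidHom = (P' : Subgroup (Cfsg.PSp m F)) from rfl, ← h1]
    rfl
  refine ⟨γ⁻¹ * β, t, ?_, ?_⟩
  · rw [show (γ⁻¹ * β).toMonoidHom = (γ⁻¹).toMonoidHom.comp β.toMonoidHom from rfl, ← Subgroup.map_map, hP',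
      Subgroup.map_map]
    convert Subgroup.map_id (P : Subgroup (Cfsg.PSp m F)) using 2
    exact MonoidHom.ext fun z => γ.symm_apply_apply z
  · rw [hxv, Subgroup.map_map, Subgroup.map_map]
    congr 1
    exact MonoidHom.ext fun z => (γ.apply_symm_apply _).symm

theorem map_conj_xg (t : Matrix.symplecticGroup (Fin m) F) (v : Fin m ⊕ Fin m → F) :
    (xg v).map (MulAut.conj (QuotientGroup.mk t : Cfsg.PSp m F)).toMonoidHom = xg (t • v) := by
  ext x
  constructor
  · rintro ⟨y, hy, rfl⟩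
    obtain ⟨c, rfl⟩ := mem_xg.mp hy
    refine mem_xg.mpr ⟨c, ?_⟩
    show _ = (QuotientGroup.mk t : Cfsg.PSp m F) * QuotientGroup.mk _ * (QuotientGroup.mk t)⁻¹
    rw [← QuotientGroup.mk_inv, ← QuotientGroup.mk_mul, ← QuotientGroup.mk_mul, tv_conj]
  · intro hx
    obtain ⟨c, rfl⟩ := mem_xg.mp hx
    refine ⟨_, mk_tv_mem v c, ?_⟩
    show (QuotientGroup.mk t : Cfsg.PSp m F) * QuotientGroup.mk _ * (QuotientGroup.mk t)⁻¹ = _
    rw [← QuotientGroup.mk_inv, ← QuotientGroup.mk_mul, ← QuotientGroup.mk_mul, tv_conj]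

/-- Automorphisms permute transvection groups. -/
theorem exists_map_xg (hm : 2 ≤ m) (h2 : (2 : F) ≠ 0 ∨ 3 ≤ m) (α : MulAut (Cfsg.PSp m F))
    {v : Fin m ⊕ Fin m → F} (hv : v ≠ 0) : ∃ w, w ≠ 0 ∧ (xg v).map α.toMonoidHom = xg w := by
  classical
  have : NeZero m := ⟨by omega⟩
  obtain ⟨p, hp, hchar⟩ := exists_prime_char (F := F)
  haveI := hchar
  haveI := Fact.mk hp
  obtain ⟨P, hP1, hP2⟩ := exists_sylow_center (F := F) hm p
  obtain ⟨β, t, hβ, hαv⟩ := exists_normalised hm P α hv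
  let Qp : Cfsg.PSp m F → Prop := fun x => p = 2 → NoFour x
  have hset : {x : Cfsg.PSp m F | x ∈ (P : Subgroup (Cfsg.PSp m F)) ∧ (∀ y ∈ (P : Subgroup (Cfsg.PSp m F)), x * y = y * x) ∧ Qp x} =
      (xg (eV 0 : Fin m ⊕ Fin m → F) : Set (Cfsg.PSp m F)) := by
    ext x
    constructor
    · rintro ⟨hx, hc, hq⟩
      obtain ⟨B, hB, rfl, hBeq, hd2⟩ := hP2 x hx hc
      have hd0 : B 0 ⟨1, hm⟩ = 0 := by
        rcases h2 with h2 | h3
        · exact (mul_eq_zero.mp hd2).resolve_left h2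
        · by_contra hd
          by_cases hp2 : p = 2
          · subst hp2
            refine not_noFour_uni (a := (0 : Fin m)) (b := ⟨1, hm⟩) (c := ⟨2, h3⟩) (by simp [Fin.ext_iff])
              (by simp [Fin.ext_iff]) (by simp [Fin.ext_iff]) (B 0 0) _ hd (hBeq ▸ hB) ?_
            have hq2 := hq rfl
            rwa [uni_congr hBeq hB (hBeq ▸ hB)] at hq2
          · refine hd ((mul_eq_zero.mp hd2).resolve_left fun h => hp2 ?_)
            have : p ∣ 2 := (CharP.cast_eq_zero_iff F p 2).mp (by exact_mod_cast h)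
            exact (Nat.prime_dvd_prime_iff_eq hp Nat.prime_two).mp this
      rw [hd0, Matrix.single_zero, Matrix.single_zero, add_zero, add_zero] at hBeq
      refine mem_xg.mpr ⟨B 0 0, congrArg _ ?_⟩
      rw [eV, tv_single_eq_uni]
      exact uni_congr hBeq.symm _ _
    · intro hx
      refine ⟨(hP1 x hx).1, (hP1 x hx).2, fun hp2 => ?_⟩
      obtain ⟨c, rfl⟩ := mem_xg.mp hx
      subst hp2
      exact noFour_tv _ _
  have e1 := map_setOf β (P : Subgroup (Cfsg.PSp m F)) Qp (fun x h e => noFour_map β (h e))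
    (fun x h e => by simpa using noFour_map β⁻¹ (h e))
  rw [hβ, hset] at e1
  refine ⟨t • (eV 0 : Fin m ⊕ Fin m → F), fun e => eV_ne_zero (F := F) (0 : Fin m) (by
    rw [← inv_smul_smul t (eV 0 : Fin m ⊕ Fin m → F), e]; exact smul_zero _), ?_⟩
  rw [hαv, ← map_conj_xg]
  exact congrArg _ (SetLike.coe_injective e1)

end CfsgLib.AutPSp
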